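import Groth.Agent.TorWedge.Global
import Groth.Agent.KoszulLib.Flat
import Groth.Agent.PBundle.Euler

/-!
# `H_k(F^* L) ≅ E ⊗ ⋀^k(conormal)` for a Koszul-regular closed immersion
-/

set_option autoImplicit false
set_option linter.style.haveILetI false
set_option linter.unusedSectionVars false
set_option backward.isDefEq.respectTransparency false
set_option backward.isDefEq.respectTransparency.types false
set_option maxHeartbeats 1000000

universe u

open CategoryTheory CategoryTheory.Limits AlgebraicGeometry Opposite TopologicalSpace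

noncomputable section

namespace Groth.Agent.TorWedge

open Groth.Agent.QC (res resO res_res res_smul)

variable {P M : Scheme.{u}} {F : P ⟶ M} [IsClosedImmersion F] {E : P.Modules}
  {L : ChainComplex M.Modules ℕ}
  {π : L ⟶ (ChainComplex.single₀ M.Modules).obj ((Scheme.Modules.pushforward F).obj E)}
  (h : Hyp F π)

variable (F) in
/-- An affine open on which the kernel is generated by a sequence with acyclic Koszul complex. -/
def IsCut (U : M.Opens) : Prop :=
  IsAffineOpen U ∧ ∃ (n : ℕ) (f : Fin n → Γ(M, U)), Wiebe.Acyclic f ∧ RingHom.ker (F.app U).hom = Ideal.span (Set.range f)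

variable (F) in
/-- Koszul-regularity of a closed immersion. -/
def IsKoszul : Prop := ∀ x : P, ∃ U : M.Opens, F.base x ∈ U ∧ IsCut F U

theorem IsCut.basicOpen {U : M.Opens} (hU : IsCut F U) (g : Γ(M, U)) : IsCut F (M.basicOpen g) := by
  obtain ⟨hA, n, f, hf, hker⟩ := hU
  have hle : M.basicOpen g ≤ U := M.basicOpen_le g
  haveI : IsLocalization.Away g Γ(M, M.basicOpen g) := hA.isLocalization_basicOpen g
  refine ⟨hA.basicOpen g, n, fun i => resO M hle (f i), KoszulLib.acyclic_localization _ (Submonoid.powers g) hf, ?_⟩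
  rw [(chartOf F hA).ker_eq_map (hA.basicOpen g) hle, hker, Ideal.map_span, ← Set.range_comp]
  rfl

variable (E) in
/-- The opens where the comparison is computed. -/
def IsNice (F : P ⟶ M) [IsClosedImmersion F] (V : P.Opens) : Prop :=
  ∃ U : M.Opens, IsCut F U ∧ F ⁻¹ᵁ U = V ∧ ∃ (r : ℕ) (b : Fin r → Γ(E, F ⁻¹ᵁ U)), TMul.IsFrame b

theorem isBase_isNice (hK : IsKoszul F) (hE : FlatMod.IsFinLocFree E) : SGA6Ext.IsBase (IsNice E F) := fun O x hx => by
  obtain ⟨U₀, hxU₀, hU₀⟩ := hK x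
  obtain ⟨V₀, r, b, hxV₀, hb⟩ := TMul.exists_isFrame hE x
  obtain ⟨W, hW, hWO⟩ := (F.isClosedEmbedding.toIsInducing.isOpen_iff (s := ((O ⊓ V₀ : P.Opens) : Set P))).1 (O ⊓ V₀).2
  have hxW : F.base x ∈ (⟨W, hW⟩ : M.Opens) ⊓ U₀ := by
    refine ⟨?_, hxU₀⟩
    show x ∈ F.base ⁻¹' W
    rw [hWO]; exact ⟨hx, hxV₀⟩
  obtain ⟨g, hgle, hxg⟩ := hU₀.1.exists_basicOpen_le ⟨F.base x, hxW⟩ hxU₀
  have hle : F ⁻¹ᵁ (M.basicOpen g) ≤ O ⊓ V₀ := fun y hy => by
    show y ∈ ((O ⊓ V₀ : P.Opens) : Set P)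
    rw [← hWO]
    exact (hgle hy).1
  exact ⟨F ⁻¹ᵁ (M.basicOpen g), ⟨_, hU₀.basicOpen g, rfl, r, _, PBundle.isFrame_res hb (hle.trans inf_le_right)⟩,
    hxg, hle.trans inf_le_left⟩

/-- The morphism from the exterior power of the conormal sheaf. -/
theorem exists_hom (k : ℕ) {Lk : P.Modules} {φ : SGA6Ext.Phi k (Omega.conormal F) Lk} (hφ : SGA6Ext.PhiCompat φ) :
    ∃ Φ : CohB1.tensorMod E Lk ⟶ (pullCx F L).homology k, ∀ (U : M.Opens) (hU : IsAffineOpen U)
      (x : Γ(E, F ⁻¹ᵁ U)) (m : Γ(Lk, F ⁻¹ᵁ U)), Φ.app (F ⁻¹ᵁ U) (TMul.tm x m) = bilU h hU φ m x := by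
  obtain ⟨Φ, hΦ⟩ := SGA6Ext.exists_bilHom (isBase_isPre F) (fun V hV => (bilAt h φ hV).flip) (by
    intro W V hW hV hle x m
    obtain ⟨U', hU', rfl⟩ := hW
    obtain ⟨U, hU, rfl⟩ := hV
    show res _ hle (bilAt h φ _ m x) = bilAt h φ _ (res Lk hle m) (res E hle x)
    rw [bilAt_eq h hU hφ, bilAt_eq h hU' hφ]
    exact res_bilU h hU hφ hU' hle m x)
  refine ⟨Φ, fun U hU x m => ?_⟩
  rw [hΦ _ ⟨U, hU, rfl⟩]
  exact bilAt_eq h hU hφ _ m x

section Local

variable {U : M.Opens} (hU : IsAffineOpen U) {n : ℕ} {f : Fin n → Γ(M, U)}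
  (hker : RingHom.ker (F.app U).hom = Ideal.span (Set.range f))

include hker in
theorem mem_ker_gen (i : Fin n) : f i ∈ RingHom.ker (F.app U).hom := by
  rw [hker]; exact Ideal.subset_span ⟨i, rfl⟩

/-- The combination map into the sections of the ideal. -/
def gsec : (Fin n → Γ(M, U)) →ₗ[Γ(M, U)] Γ(ClSub.idealMod F.ker, U) :=
  Fintype.linearCombination Γ(M, U) fun i =>
    (Conormal.exists_idealSect F U (f i) (RingHom.mem_ker.1 (mem_ker_gen hker i))).choose

theorem idealSect_gsec (v : Fin n → Γ(M, U)) :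
    OmegaSh.idealSect F.ker U (gsec hker v) = Fintype.linearCombination Γ(M, U) f v := by
  rw [gsec, Fintype.linearCombination_apply, Fintype.linearCombination_apply, map_sum]
  refine Finset.sum_congr rfl fun i _ => ?_
  rw [Conormal.idealSect_smul, (Conormal.exists_idealSect F U (f i) (RingHom.mem_ker.1 (mem_ker_gen hker i))).choose_spec]
  rfl

/-- The combination map into the conormal sections. -/
def gcon : (Fin n → Γ(M, U)) →+ Γ(Omega.conormal F, F ⁻¹ᵁ U) :=
  (OmegaSh.conormalSect F U).hom.comp (gsec hker).toAddMonoidHom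

theorem gcon_smul (a : Γ(M, U)) (v : Fin n → Γ(M, U)) :
    gcon hker (a • v) = (F.app U).hom a • gcon hker v := by
  show OmegaSh.conormalSect F U (gsec hker (a • v)) = _
  rw [map_smul, Conormal.conormalSect_smul]
  rfl

include hU in
theorem gcon_surjective : Function.Surjective (gcon hker) := fun y => by
  obtain ⟨s, rfl⟩ := Conormal.conormalSect_surjective F (chartOf F hU) y
  obtain ⟨c, hc⟩ := Ideal.mem_span_range_iff_exists_fun.1
    (show OmegaSh.idealSect F.ker U s ∈ Ideal.span (Set.range f) from hker ▸ (vanI F s).2)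
  refine ⟨c, congrArg (OmegaSh.conormalSect F U) (Conormal.idealSect_injective F.ker U ?_)⟩
  show OmegaSh.idealSect F.ker U (gsec hker c) = _
  rw [idealSect_gsec, Fintype.linearCombination_apply, ← hc]
  rfl

/-- The comparison of exterior powers. -/
def gpow (k : ℕ) : ↥(⋀[Γ(M, U)]^k (Fin n → Γ(M, U))) →+ ↥(⋀[Γ(P, F ⁻¹ᵁ U)]^k Γ(Omega.conormal F, F ⁻¹ᵁ U)) :=
  SGA6Ext.extS (F.app U).hom (gcon hker) (gcon_smul hker) k

theorem gpow_smul (k : ℕ) (r : Γ(M, U)) (a : ↥(⋀[Γ(M, U)]^k (Fin n → Γ(M, U)))) :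
    gpow hker k (r • a) = (F.app U).hom r • gpow hker k a :=
  SGA6Ext.extS_smul (σ := (F.app U).hom) (gcon hker) (gcon_smul hker) k r a

include hU in
theorem gpow_surjective (k : ℕ) : Function.Surjective (gpow hker k) := fun z => by
  have hz : z ∈ Submodule.span Γ(P, F ⁻¹ᵁ U) (Set.range (exteriorPower.ιMulti Γ(P, F ⁻¹ᵁ U) k)) := by
    rw [exteriorPower.ιMulti_span]; trivial
  induction hz using Submodule.span_induction with
  | zero => exact ⟨0, map_zero _⟩
  | add a b _ _ ha hb =>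
    obtain ⟨a', rfl⟩ := ha
    obtain ⟨b', rfl⟩ := hb
    exact ⟨a' + b', map_add _ _ _⟩
  | smul r a _ ha =>
    obtain ⟨a', rfl⟩ := ha
    obtain ⟨s, rfl⟩ := F.app_surjective U hU r
    exact ⟨s • a', SGA6Ext.extS_smul _ _ k s a'⟩
  | mem a ha =>
    obtain ⟨v, rfl⟩ := ha
    choose w hw using fun j => gcon_surjective hU hker (v j)
    refine ⟨exteriorPower.ιMulti _ k w, (SGA6Ext.extS_ιMulti _ _ k w).trans ?_⟩
    exact congrArg _ (funext hw)

theorem gpow_smul_top (k : ℕ) {x : ↥(⋀[Γ(M, U)]^k (Fin n → Γ(M, U)))}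
    (hx : x ∈ RingHom.ker (F.app U).hom • (⊤ : Submodule Γ(M, U) ↥(⋀[Γ(M, U)]^k (Fin n → Γ(M, U))))) :
    gpow hker k x = 0 := by
  refine Submodule.smul_induction_on hx (fun a ha m _ => ?_) fun a b ha hb => by rw [map_add, ha, hb, add_zero]
  show SGA6Ext.extS _ _ _ k (a • m) = 0
  rw [SGA6Ext.extS_smul, RingHom.mem_ker.1 ha, zero_smul]

/-- The combination map into the ideal. -/
def gI : (Fin n → Γ(M, U)) →ₗ[Γ(M, U)] RingHom.ker (F.app U).hom :=
  (Fintype.linearCombination Γ(M, U) f).codRestrict _ fun v => by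
    rw [Fintype.linearCombination_apply]
    exact Submodule.sum_mem _ fun i _ => Ideal.mul_mem_left _ _ (mem_ker_gen hker i)

theorem nu_omegaM : ∀ (k : ℕ) (v : Fin k → Fin n → Γ(M, U)) (c : (aug h hU).H (RingHom.ker (F.app U).hom) 0),
    nu h hU k (Aug.omegaM (aug_isProj h hU) (aug_kills h hU) k (fun i => gI hker (v i)) c) =
      (opsV h hU).omega k (fun i => gcon hker (v i)) (nu h hU 0 c)
  | 0, _, _ => rfl
  | k + 1, v, c => by
    rw [Aug.omegaM_succ, Ops.omega_succ]
    have e : gI hker (v 0) = vanI F (gsec hker (v 0)) := Subtype.ext (idealSect_gsec hker (v 0)).symm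
    refine Eq.trans ?_ (congrArg (fun y => opV h hU k (gcon hker (v 0)) y) (nu_omegaM k (Fin.tail v) c))
    refine Eq.trans ?_ (opV_cls h hU k _ _).symm
    rw [e]
    rfl

/-- The wedge operation with sections as types. -/
def wedgeV (k : ℕ) : ↥(⋀[Γ(P, F ⁻¹ᵁ U)]^k Γ(Omega.conormal F, F ⁻¹ᵁ U)) →ₗ[Γ(P, F ⁻¹ᵁ U)]
    Γ((pullCx F L).homology 0, F ⁻¹ᵁ U) →ₗ[Γ(P, F ⁻¹ᵁ U)] Γ((pullCx F L).homology k, F ⁻¹ᵁ U) :=
  (opsV h hU).wedge k

theorem nu_wedge (k : ℕ) (x : ↥(⋀[Γ(M, U)]^k (Fin n → Γ(M, U)))) (c : (aug h hU).H (RingHom.ker (F.app U).hom) 0) :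
    nu h hU k (Aug.wedge (aug_isProj h hU) (aug_kills h hU) k (exteriorPower.map k (gI hker) x) c) =
      wedgeV h hU k (gpow hker k x) (nu h hU 0 c) := by
  have hx : x ∈ Submodule.span Γ(M, U) (Set.range (exteriorPower.ιMulti Γ(M, U) k)) := by
    rw [exteriorPower.ιMulti_span]; trivial
  let W := wedgeV h hU k
  induction hx using Submodule.span_induction with
  | zero =>
    rw [map_zero, map_zero, LinearMap.zero_apply, map_zero]
    refine Eq.symm ((congrArg (fun t => W t (nu h hU 0 c)) (map_zero (gpow hker k))).trans ?_)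
    exact LinearMap.congr_fun (map_zero W) _
  | add a b _ _ ha hb =>
    rw [map_add, map_add, LinearMap.add_apply, map_add, ha, hb]
    refine Eq.symm ((congrArg (fun t => W t (nu h hU 0 c)) (map_add (gpow hker k) a b)).trans ?_)
    exact LinearMap.congr_fun (map_add W _ _) _
  | smul r a _ ha =>
    let V := Aug.wedge (aug_isProj h hU) (aug_kills h hU) k
    have e1 : V (exteriorPower.map k (gI hker) (r • a)) c = r • V (exteriorPower.map k (gI hker) a) c :=
      LinearMap.congr_fun ((congrArg V (LinearMap.map_smul (exteriorPower.map k (gI hker)) r a)).trans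
        (LinearMap.map_smul V r _)) c
    have e : gpow hker k (r • a) = (F.app U).hom r • gpow hker k a := gpow_smul hker k r a
    refine (congrArg (nu h hU k) e1).trans ?_
    refine (nu_smul h hU k r _).trans ?_
    refine (congrArg ((F.app U).hom r • ·) ha).trans ?_
    refine Eq.symm ((congrArg (fun t => W t (nu h hU 0 c)) e).trans ?_)
    exact LinearMap.congr_fun (LinearMap.map_smul W _ _) _
  | mem a ha =>
    obtain ⟨v, rfl⟩ := ha
    rw [exteriorPower.map_apply_ιMulti, Aug.wedge_ιMulti]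
    refine Eq.trans ?_ (congrArg (fun t => (opsV h hU).wedge k t (nu h hU 0 c))
      (SGA6Ext.extS_ιMulti (gcon hker) (gcon_smul hker) k v).symm)
    refine Eq.trans ?_ ((opsV h hU).wedge_ιMulti k _ _).symm
    exact nu_omegaM h hU hker k v c

end Local

/-- The morphism is an isomorphism for a Koszul-regular immersion. -/
theorem isIso_of_formula (hK : IsKoszul F) (hE : FlatMod.IsFinLocFree E) (k : ℕ) {Lk : P.Modules}
    {φ : SGA6Ext.Phi k (Omega.conormal F) Lk}
    (Φ : CohB1.tensorMod E Lk ⟶ (pullCx F L).homology k)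
    (hΦ : ∀ (U : M.Opens) (hU : IsAffineOpen U) (x : Γ(E, F ⁻¹ᵁ U)) (m : Γ(Lk, F ⁻¹ᵁ U)),
      Φ.app (F ⁻¹ᵁ U) (TMul.tm x m) = bilU h hU φ m x) : IsIso Φ := by
  classical
  suffices key : ∀ V, IsNice E F V → Function.Bijective (Φ.app V) by
    haveI := SGA6Ext.mono_of_base (isBase_isNice hK hE) Φ fun V hV => (key V hV).1
    haveI := SGA6Ext.epi_of_base (isBase_isNice hK hE) Φ fun V hV => (key V hV).2
    exact isIso_of_mono_of_epi Φ
  rintro _ ⟨U, ⟨hU, n, f, hf, hker⟩, rfl, r, b, hb⟩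
  let A := Γ(M, U)
  let I := RingHom.ker (F.app U).hom
  let φV := φ ⟨F ⁻¹ᵁ U, hU.preimage F⟩
  let red : (A ⧸ I) ≃+* Γ(P, F ⁻¹ᵁ U) := RingHom.quotientKerEquivOfSurjective (F.app_surjective U hU)
  let eQ : (Fin r → A ⧸ I) ≃ₗ[A] (aug h hU).Q :=
    { toFun := fun c => ∑ j, red (c j) • b j
      map_add' := fun c d => by
        show (∑ j, red (c j + d j) • b j : Γ(E, F ⁻¹ᵁ U)) = _
        simp only [map_add, add_smul, Finset.sum_add_distrib]
      map_smul' := fun a c => by
        show (∑ j, red (a • c j) • b j : Γ(E, F ⁻¹ᵁ U)) = (F.app U).hom a • ∑ j, red (c j) • b j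
        rw [Finset.smul_sum]
        refine Finset.sum_congr rfl fun j _ => ?_
        rw [smul_smul, Algebra.smul_def, map_mul]
        rfl
      invFun := fun e j => red.symm ((hb.equiv le_rfl).symm e j)
      left_inv := fun c => funext fun j => by
        have : (hb.equiv le_rfl).symm (∑ j, red (c j) • b j) = fun j => red (c j) :=
          (LinearEquiv.symm_apply_eq _).2 (Finset.sum_congr rfl fun j _ => by rw [QC.res_self])
        simp only [this, RingEquiv.symm_apply_apply]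
      right_inv := fun e => by
        show (∑ j, red (red.symm _) • b j : Γ(E, F ⁻¹ᵁ U)) = e
        simp only [RingEquiv.apply_symm_apply]
        refine Eq.trans ?_ ((hb.equiv le_rfl).apply_symm_apply e)
        exact Finset.sum_congr rfl fun j _ => by rw [QC.res_self] }
  let q : Fin r → (aug h hU).H I 0 := fun j =>
    (LinearEquiv.ofBijective _ (toQ_bijective h hU)).symm (show (aug h hU).Q from b j)
  have hq : ∀ j, Aug.toQ (aug_kills h hU) (q j) = eQ (Pi.single j 1) := fun j => by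
    refine ((LinearEquiv.ofBijective _ (toQ_bijective h hU)).apply_symm_apply _).trans ?_
    show b j = ∑ i, red (Pi.single (M := fun _ => A ⧸ I) j 1 i) • b i
    rw [Finset.sum_eq_single j (fun i _ hi => by simp [Pi.single_eq_of_ne hi]) (by simp), Pi.single_eq_same, map_one,
      one_smul]
  have hfI : ∀ i, f i ∈ I := mem_ker_gen hker
  have hθ := theta_bijective hf hker (aug_isProj h hU) (aug_surj h hU) (aug_kills h hU) eQ q hq hfI k
  let S : (Fin r → ↥(⋀[A]^k (Fin n → A))) → Γ(CohB1.tensorMod E Lk, F ⁻¹ᵁ U) := fun x =>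
    ∑ j, TMul.tm (b j) (φV.symm (gpow hker k (x j)))
  have hS : ∀ x, Φ.app (F ⁻¹ᵁ U) (S x) = nu h hU k (theta (aug_isProj h hU) (aug_kills h hU) hfI q k x) := by
    intro x
    show Φ.app (F ⁻¹ᵁ U) (∑ j, TMul.tm (b j) (φV.symm (gpow hker k (x j)))) = _
    simp only [map_sum, theta, LinearMap.sum_apply, LinearMap.comp_apply, LinearMap.proj_apply,
      LinearMap.applyₗ_apply_apply]
    refine Finset.sum_congr rfl fun j _ => ?_
    rw [hΦ U hU]
    refine Eq.trans ?_ (nu_wedge h hU hker k (x j) (q j)).symm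
    show wedgeV h hU k (φV (φV.symm (gpow hker k (x j)))) (q0 h hU (b j)) = _
    rw [LinearEquiv.apply_symm_apply]
    rfl
  have hSsurj : Function.Surjective S := fun t => by
    obtain ⟨m, hm⟩ := (hb.tm_bijective (M := Lk) (F ⁻¹ᵁ U) le_rfl).2 t
    choose x hx using fun j => gpow_surjective hU hker k (φV (m j))
    refine ⟨x, Eq.trans (Finset.sum_congr rfl fun j _ => ?_) hm⟩
    rw [hx, LinearEquiv.symm_apply_apply, QC.res_self]
  refine ⟨(injective_iff_map_eq_zero _).2 fun t ht => ?_, fun y => ?_⟩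
  · obtain ⟨x, rfl⟩ := hSsurj t
    rw [hS, map_eq_zero_iff _ (nu h hU k).injective] at ht
    refine Finset.sum_eq_zero fun j _ => ?_
    rw [gpow_smul_top hker k ((hθ.2 x).1 ht j), map_zero]
    exact (TMul.tt_tmul _ _).symm.trans (by rw [TensorProduct.tmul_zero, map_zero])
  · obtain ⟨x, hx⟩ := hθ.1 ((nu h hU k).symm y)
    exact ⟨S x, by rw [hS, hx, AddEquiv.apply_symm_apply]⟩

/-- The fundamental isomorphism. -/
theorem nonempty_iso (h : Hyp F π) (hK : IsKoszul F) (hE : FlatMod.IsFinLocFree E) (k : ℕ) {Lk : P.Modules}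
    (hLk : ExtPow.IsExtPow k (Omega.conormal F) Lk) :
    Nonempty (CohB1.tensorMod E Lk ≅ (pullCx F L).homology k) := by
  obtain ⟨φ, hφ⟩ := hLk
  obtain ⟨Φ, hΦ⟩ := exists_hom h k (φ := φ) hφ
  haveI := isIso_of_formula h hK hE k Φ hΦ
  exact ⟨asIso Φ⟩

end Groth.Agent.TorWedge
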