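import Groth.Agent.K0ResLF.Push
import Groth.Agent.QC.Closure

/-!
# Sections of homology sheaves of quasi-coherent complexes over affine opens
-/

set_option autoImplicit false
set_option linter.style.haveILetI false
set_option backward.isDefEq.respectTransparency false
set_option backward.isDefEq.respectTransparency.types false

universe u

open CategoryTheory CategoryTheory.Limits AlgebraicGeometry Opposite TopologicalSpace

noncomputable section

namespace Groth.Agent.TorWedge

open Groth.Agent.QC (res)

variable {X : Scheme.{u}} (C : ChainComplex X.Modules ℕ) (k : ℕ) (V : X.Opens)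

/-- The cycles on sections. -/
def secZ : Submodule Γ(X, V) Γ(C.X k, V) :=
  LinearMap.ker (QC.appₗ (C.d k ((ComplexShape.down ℕ).next k)) V)

theorem mem_secZ_succ {y : Γ(C.X (k + 1), V)} : y ∈ secZ C (k + 1) V ↔ (C.d (k + 1) k).app V y = 0 := by
  rw [secZ, ChainComplex.next_nat_succ, LinearMap.mem_ker]; rfl

theorem mem_secZ_zero (y : Γ(C.X 0, V)) : y ∈ secZ C 0 V := by
  rw [secZ, LinearMap.mem_ker, C.shape 0 _ (by simp)]; rfl

theorem iCycles_app_injective : Function.Injective ((C.iCycles k).app V) := QC.app_injective_of_mono _ V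

theorem exists_cycle (y : secZ C k V) : ∃ z : Γ(C.cycles k, V), (C.iCycles k).app V z = y.1 := by
  let d := C.d k ((ComplexShape.down ℕ).next k)
  let S : ShortComplex X.Modules := ShortComplex.mk (kernel.ι d) d (kernel.condition d)
  haveI : (Scheme.Modules.toPresheaf X ⋙ (evaluation _ Ab.{u}).obj (op V)).PreservesZeroMorphisms :=
    ⟨fun _ _ => rfl⟩
  haveI : PreservesFiniteLimits (Scheme.Modules.toPresheaf X) :=
    PreservesLimitsOfSize.preservesFiniteLimits (F := Scheme.Modules.toPresheaf X)
  haveI : PreservesFiniteLimits (Scheme.Modules.toPresheaf X ⋙ (evaluation _ Ab.{u}).obj (op V)) :=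
    haveI : PreservesFiniteLimits ((evaluation (TopologicalSpace.Opens ↥X)ᵒᵖ Ab.{u}).obj (op V)) :=
      ⟨fun _ _ _ => evaluation_preservesLimitsOfShape _⟩
    comp_preservesFiniteLimits _ _
  have h : (S.map (Scheme.Modules.toPresheaf X ⋙ (evaluation _ _).obj (op V))).Exact :=
    (ShortComplex.exact_of_f_is_kernel S (kernelIsKernel d)).map_of_mono_of_preservesKernel _
      (inferInstanceAs (Mono (kernel.ι d))) inferInstance
  obtain ⟨z, hz⟩ := (ShortComplex.ab_exact_iff_function_exact _ |>.1 h y.1).1 y.2
  refine ⟨(C.liftCycles (kernel.ι d) ((ComplexShape.down ℕ).next k) rfl (kernel.condition d)).app V z, ?_⟩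
  refine Eq.trans ?_ hz
  exact congr(($(C.liftCycles_i (kernel.ι d) _ rfl (kernel.condition d))).app V z)

/-- The class of a cycle. -/
def hs : secZ C k V →ₗ[Γ(X, V)] Γ(C.homology k, V) where
  toFun y := (C.homologyπ k).app V (exists_cycle C k V y).choose
  map_add' a b := by
    rw [← map_add]
    refine congrArg _ (iCycles_app_injective C k V ?_)
    rw [(exists_cycle C k V _).choose_spec, map_add, (exists_cycle C k V a).choose_spec,
      (exists_cycle C k V b).choose_spec]
    rfl
  map_smul' r a := by
    rw [RingHom.id_apply, ← Scheme.Modules.Hom.app_smul]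
    refine congrArg _ (iCycles_app_injective C k V ?_)
    rw [(exists_cycle C k V _).choose_spec, Scheme.Modules.Hom.app_smul, (exists_cycle C k V a).choose_spec]
    rfl

theorem hs_eq (y : secZ C k V) (z : Γ(C.cycles k, V)) (hz : (C.iCycles k).app V z = y.1) :
    hs C k V y = (C.homologyπ k).app V z := by
  show (C.homologyπ k).app V _ = _
  exact congrArg _ (iCycles_app_injective C k V ((exists_cycle C k V y).choose_spec.trans hz.symm))

theorem res_hs {W : X.Opens} (h : W ≤ V) (y : secZ C k V) (hy : res (C.X k) h y.1 ∈ secZ C k W) :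
    res (C.homology k) h (hs C k V y) = hs C k W ⟨res (C.X k) h y.1, hy⟩ := by
  obtain ⟨z, hz⟩ := exists_cycle C k V y
  rw [hs_eq C k V y z hz, QC.app_res, hs_eq C k W _ (res (C.cycles k) h z)]
  rw [← QC.app_res, hz]

/-- Classes are natural. -/
theorem map_hs {D : ChainComplex X.Modules ℕ} (φ : C ⟶ D) (y : secZ C k V)
    (hy : (φ.f k).app V y.1 ∈ secZ D k V) :
    (HomologicalComplex.homologyMap φ k).app V (hs C k V y) = hs D k V ⟨(φ.f k).app V y.1, hy⟩ := by
  obtain ⟨z, hz⟩ := exists_cycle C k V y
  rw [hs_eq C k V y z hz, hs_eq D k V _ ((HomologicalComplex.cyclesMap φ k).app V z)]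
  · exact congr(($(HomologicalComplex.homologyπ_naturality φ k)).app V z)
  · show _ = (φ.f k).app V y.1
    rw [← hz]
    exact congr(($(HomologicalComplex.cyclesMap_i φ k)).app V z)

variable {C k V} (hC : ∀ i, Coh.IsQCoh (C.X i)) (hV : IsAffineOpen V)

include hC

theorem isQCoh_cycles (i : ℕ) : Coh.IsQCoh (C.cycles i) := by
  let d := C.d i ((ComplexShape.down ℕ).next i)
  have e : kernel d ≅ C.cycles i :=
    IsLimit.conePointUniqueUpToIso (kernelIsKernel d) (C.cyclesIsKernel i ((ComplexShape.down ℕ).next i) rfl)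
  exact QC.isQCoh_of_iso e (QC.isQCoh_kernel (hC i) (hC _) d)

theorem isQCoh_homology (i : ℕ) : Coh.IsQCoh (C.homology i) := by
  let t := C.toCycles ((ComplexShape.down ℕ).prev i) i
  have e : cokernel t ≅ C.homology i :=
    IsColimit.coconePointUniqueUpToIso (cokernelIsCokernel t) (C.homologyIsCokernel _ i rfl)
  exact QC.isQCoh_of_iso e (QC.isQCoh_cokernel (hC _) (isQCoh_cycles hC i) t)

include hV

theorem hs_surjective : Function.Surjective (hs C k V) := fun h => by
  obtain ⟨z, rfl⟩ := QC.app_surjective_of_epi hV (isQCoh_cycles hC k) (isQCoh_homology hC k) (C.homologyπ k) h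
  refine ⟨⟨(C.iCycles k).app V z, ?_⟩, hs_eq C k V _ z rfl⟩
  rw [secZ, LinearMap.mem_ker]
  exact congr(($(C.iCycles_d k ((ComplexShape.down ℕ).next k))).app V z)

theorem hs_eq_zero_iff (y : secZ C k V) :
    hs C k V y = 0 ↔ ∃ w : Γ(C.X (k + 1), V), (C.d (k + 1) k).app V w = y.1 := by
  obtain ⟨z, hz⟩ := exists_cycle C k V y
  rw [hs_eq C k V y z hz]
  let π := C.homologyπ k
  let t := C.toCycles (k + 1) k
  let S : ShortComplex X.Modules := ShortComplex.mk (kernel.ι π) π (kernel.condition π)
  have hS : S.ShortExact :=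
    { exact := ShortComplex.exact_of_f_is_kernel S (kernelIsKernel π)
      mono_f := inferInstanceAs (Mono (kernel.ι π))
      epi_g := inferInstanceAs (Epi π) }
  have hkq : Coh.IsQCoh (kernel π) := QC.isQCoh_kernel (isQCoh_cycles hC k) (isQCoh_homology hC k) π
  have hseq := K0ResLF.sectSeq_shortExact hS hV (isQCoh_cycles hC k) (isQCoh_homology hC k)
  constructor
  · intro h
    obtain ⟨m, hm⟩ := ((ShortComplex.ShortExact.moduleCat_exact_iff_function_exact _).1 hseq.exact z).1 h
    haveI : Epi (kernel.lift π t (C.toCycles_comp_homologyπ (k + 1) k)) := by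
      have hex : (ShortComplex.mk t π (C.toCycles_comp_homologyπ (k + 1) k)).Exact :=
        ShortComplex.exact_of_g_is_cokernel _ (C.homologyIsCokernel (k + 1) k (ChainComplex.prev ℕ k))
      exact (ShortComplex.exact_iff_epi_kernel_lift _).1 hex
    obtain ⟨w, hw⟩ := QC.app_surjective_of_epi hV (hC (k + 1)) hkq
      (kernel.lift π t (C.toCycles_comp_homologyπ (k + 1) k)) m
    refine ⟨w, ?_⟩
    have e1 : z = t.app V w := by
      refine hm.symm.trans ?_
      rw [← hw]
      exact congr(($(kernel.lift_ι π t (C.toCycles_comp_homologyπ (k + 1) k))).app V w)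
    rw [← hz, e1]
    exact congr(($(Eq.symm (C.toCycles_i (k + 1) k))).app V w)
  · rintro ⟨w, hw⟩
    have e1 : z = t.app V w := iCycles_app_injective C k V (by
      rw [hz, ← hw]
      exact congr(($(Eq.symm (C.toCycles_i (k + 1) k))).app V w))
    rw [e1]
    exact congr(($(C.toCycles_comp_homologyπ (k + 1) k)).app V w)

end Groth.Agent.TorWedge
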