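import Groth.Agent.TorWedge.Ops
import Groth.Agent.TorWedge.SectHom
import Groth.Agent.FSchCoh.Unit
import Groth.Agent.Conormal.Basic
import Groth.Agent.LocFree.Props
import Groth.Agent.QC.Localisation
import Groth.Prelude.Def_Omega4

/-!
# The operators of the conormal sheaf on the homology of a pulled back resolution
-/

set_option autoImplicit false
set_option linter.style.haveILetI false
set_option linter.unusedSectionVars false
set_option backward.isDefEq.respectTransparency false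
set_option backward.isDefEq.respectTransparency.types false
set_option maxHeartbeats 1000000

universe u

open CategoryTheory CategoryTheory.Limits AlgebraicGeometry Opposite TopologicalSpace

noncomputable section

namespace Groth.Agent.TorWedge

open Groth.Agent.QC (res resO)

section Restrict

variable {A A' : Type u} [CommRing A] [CommRing A']

/-- An acyclic complex over `A'` regarded over `A`. -/
def Aug.restrict (σ : A →+* A') (T : Aug A') : Aug A where
  P k := (ModuleCat.restrictScalars σ).obj (T.P k)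
  Q := (ModuleCat.restrictScalars σ).obj T.Q
  d k :=
    { toFun := fun x => T.d k x
      map_add' := fun x y => (T.d k).map_add x y
      map_smul' := fun a x => (T.d k).map_smul (σ a) x }
  π :=
    { toFun := fun x => T.π x
      map_add' := fun x y => T.π.map_add x y
      map_smul' := fun a x => T.π.map_smul (σ a) x }
  d_d := T.d_d
  π_d := T.π_d
  exact_zero := T.exact_zero
  exact_succ := T.exact_succ

/-- Homotopies are compatible with semilinear chain maps, up to boundaries. -/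
theorem Aug.Htpy.sub_mem_B_semilinear {C : Aug A} (hC : C.IsProj) {T : Aug A'} (σ : A →+* A') {I : Ideal A}
    {I' : Ideal A'} (hII : ∀ a ∈ I, σ a ∈ I') (φ : ∀ k, C.P k →ₛₗ[σ] T.P k)
    (hφ : ∀ k x, T.d k (φ (k + 1) x) = φ k (C.d k x)) {a : A} (h : C.Htpy a) (h' : T.Htpy (σ a)) :
    ∀ k x, x ∈ C.Z I k → φ (k + 1) (h.h k x) - h'.h k (φ k x) ∈ T.B I' (k + 1) := by
  let T' := T.restrict σ
  let φ' : ∀ k, C.P k →ₗ[A] T'.P k := fun k =>
    { toFun := fun x => φ k x
      map_add' := fun x y => (φ k).map_add x y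
      map_smul' := fun a x => (φ k).map_smulₛₗ a x }
  let h'' : T'.Htpy a :=
    { h := fun k =>
        { toFun := fun x => h'.h k x
          map_add' := fun x y => (h'.h k).map_add x y
          map_smul' := fun b x => (h'.h k).map_smul (σ b) x }
      d_h_zero := fun x => h'.d_h_zero x
      d_h := fun k x => h'.d_h k x }
  intro k x hx
  obtain ⟨_, ⟨y, rfl⟩, w, hw, e⟩ := Submodule.mem_sup.1 (Aug.Htpy.sub_mem_B I hC φ' hφ h h'' k x hx)
  show _ ∈ T.B I' (k + 1)
  have hw' : (show T.P (k + 1) from w) ∈ I' • (⊤ : Submodule A' (T.P (k + 1))) := by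
    refine Submodule.smul_induction_on hw (fun b hb m _ => ?_) fun u v hu hv => add_mem hu hv
    exact Submodule.smul_mem_smul (r := σ b) (hII b hb) trivial
  have := add_mem (T.d_mem_B I' y) (T.smul_top_le_B I' _ hw')
  exact e ▸ this

end Restrict

variable {P M : Scheme.{u}} (F : P ⟶ M) [IsClosedImmersion F] {E : P.Modules}
  {L : ChainComplex M.Modules ℕ}
  (π : L ⟶ (ChainComplex.single₀ M.Modules).obj ((Scheme.Modules.pushforward F).obj E))

/-- The hypotheses: a resolution by finite locally free modules of the direct image of a quasi-coherent module. -/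
structure Hyp : Prop where
  finLocFree : ∀ i, FlatMod.IsFinLocFree (L.X i)
  quasiIso : QuasiIso π
  qc : Coh.IsQCoh E

variable (L) in
/-- The inverse image of the resolution. -/
abbrev pullCx : ChainComplex P.Modules ℕ :=
  ((Scheme.Modules.pullback F).mapHomologicalComplex (ComplexShape.down ℕ)).obj L

variable {F π}

/-- Sections of a zero module vanish. -/
theorem eq_zero_of_isZero {X : Scheme.{u}} {N : X.Modules} (h : IsZero N) {U : X.Opens} (x : Γ(N, U)) : x = 0 := by
  have e : x = (𝟙 N : N ⟶ N).app U x := rfl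
  rw [h.eq_of_src (𝟙 N) 0] at e
  exact e

theorem Hyp.qcX (h : Hyp F π) (i : ℕ) : Coh.IsQCoh (L.X i) := LocFree.isQCoh_of_isFinLocFree (h.finLocFree i)

theorem Hyp.qcP (h : Hyp F π) (i : ℕ) : Coh.IsQCoh ((pullCx F L).X i) :=
  LocFree.isQCoh_of_isFinLocFree (DerPerf.isFinLocFree_pullback F (h.finLocFree i))

theorem Hyp.qcPush (h : Hyp F π) : Coh.IsQCoh ((Scheme.Modules.pushforward F).obj E) :=
  haveI : E.IsQuasicoherent := h.qc
  QC.isQCoh_pushforward F

theorem Hyp.qcS (h : Hyp F π) (i : ℕ) :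
    Coh.IsQCoh (((ChainComplex.single₀ M.Modules).obj ((Scheme.Modules.pushforward F).obj E)).X i) := by
  rcases i with _ | i
  · exact h.qcPush
  · exact LocFree.isQCoh_of_isFinLocFree (DQCoh.isFinLocFree_of_isZero (HomologicalComplex.isZero_single_obj_X _ 0 _ _ (by simp)))

variable (h : Hyp F π) {U : M.Opens} (hU : IsAffineOpen U)

/-- The homology of the resolution on sections. -/
theorem Hyp.hs_π (h : Hyp F π) (k : ℕ) (y : secZ L k U) : Function.Bijective
    ((HomologicalComplex.homologyMap π k).app U) :=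
  haveI : QuasiIsoAt π k := h.quasiIso.quasiIsoAt k
  haveI : IsIso (HomologicalComplex.homologyMap π k) := (quasiIsoAt_iff_isIso_homologyMap π k).1 inferInstance
  ConcreteCategory.bijective_of_isIso ((HomologicalComplex.homologyMap π k).app U)

include hU in
theorem Hyp.exact_succ (h : Hyp F π) (k : ℕ) (x : Γ(L.X (k + 1), U)) (hx : (L.d (k + 1) k).app U x = 0) :
    ∃ y, (L.d (k + 2) (k + 1)).app U y = x := by
  let y : secZ L (k + 1) U := ⟨x, (mem_secZ_succ L k U).2 hx⟩
  refine (hs_eq_zero_iff h.qcX hU y).1 ((h.hs_π (k + 1) y).1 ?_)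
  rw [map_zero, map_hs L (k + 1) U π y ((mem_secZ_succ _ k U).2 (by simp)),
    hs_eq_zero_iff h.qcS hU]
  refine ⟨0, ?_⟩
  rw [map_zero]
  exact (eq_zero_of_isZero (HomologicalComplex.isZero_single_obj_X (ComplexShape.down ℕ) 0 _ (k + 1) (by simp)) _).symm

include hU in
theorem Hyp.exact_zero (h : Hyp F π) (x : Γ(L.X 0, U)) (hx : (π.f 0).app U x = 0) :
    ∃ y, (L.d 1 0).app U y = x := by
  let y : secZ L 0 U := ⟨x, mem_secZ_zero L U x⟩
  refine (hs_eq_zero_iff h.qcX hU y).1 ((h.hs_π 0 y).1 ?_)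
  rw [map_zero, map_hs L 0 U π y (mem_secZ_zero _ U _), hs_eq_zero_iff h.qcS hU]
  exact ⟨0, by rw [map_zero]; exact hx.symm⟩

include hU in
theorem Hyp.surjective (h : Hyp F π) (e : Γ((Scheme.Modules.pushforward F).obj E, U)) :
    ∃ x, (π.f 0).app U x = e := by
  let ye : secZ ((ChainComplex.single₀ M.Modules).obj ((Scheme.Modules.pushforward F).obj E)) 0 U :=
    ⟨e, mem_secZ_zero _ U e⟩
  obtain ⟨c, hc⟩ := (h.hs_π 0 (0 : secZ L 0 U)).2 (hs _ 0 U ye)
  obtain ⟨y, rfl⟩ := hs_surjective h.qcX hU c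
  rw [map_hs L 0 U π y (mem_secZ_zero _ U _), ← sub_eq_zero, ← map_sub, hs_eq_zero_iff h.qcS hU] at hc
  obtain ⟨w, hw⟩ := hc
  refine ⟨y.1, sub_eq_zero.1 (hw.symm.trans ?_)⟩
  have hz : IsZero (((ChainComplex.single₀ M.Modules).obj ((Scheme.Modules.pushforward F).obj E)).X 1) :=
    HomologicalComplex.isZero_single_obj_X (ComplexShape.down ℕ) 0 _ 1 (by simp)
  exact (congrArg _ (eq_zero_of_isZero hz w)).trans (map_zero _)

/-- The complex of sections over an affine open. -/
def aug : Aug Γ(M, U) where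
  P k := ModuleCat.of Γ(M, U) Γ(L.X k, U)
  Q := ModuleCat.of Γ(M, U) Γ((Scheme.Modules.pushforward F).obj E, U)
  d k := QC.appₗ (L.d (k + 1) k) U
  π := QC.appₗ (π.f 0) U
  d_d k x := congr(($(L.d_comp_d (k + 2) (k + 1) k)).app U x)
  π_d x := by
    refine Eq.trans congr(($(Eq.symm (π.comm 1 0))).app U x) ?_
    simp
  exact_zero := h.exact_zero hU
  exact_succ := h.exact_succ hU

theorem aug_isProj : (aug h hU).IsProj := fun k => LocFree.projective_sections (h.finLocFree k) hU

theorem aug_kills : (aug h hU).Kills (RingHom.ker (F.app U).hom) := fun a ha q => by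
  show (F.app U).hom a • (show Γ(E, F ⁻¹ᵁ U) from q) = 0
  rw [RingHom.mem_ker.1 ha, zero_smul]

theorem aug_surj : Function.Surjective (aug h hU).π := h.surjective hU

variable (F L) in
/-- The unit on sections. -/
def eta (k : ℕ) (U : M.Opens) : Γ(L.X k, U) →+ Γ((pullCx F L).X k, F ⁻¹ᵁ U) :=
  { toFun := fun x => OmegaSh.pullSect F (L.X k) U x
    map_zero' := map_zero _
    map_add' := fun x y => map_add _ x y }

theorem eta_d (i j : ℕ) (U : M.Opens) (x : Γ(L.X i, U)) :
    eta F L j U ((L.d i j).app U x) = ((pullCx F L).d i j).app (F ⁻¹ᵁ U) (eta F L i U x) :=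
  congr(($((Scheme.Modules.pullbackPushforwardAdjunction F).unit.naturality (L.d i j))).app U x)

include hU in
theorem eta_eq_zero_iff (h : Hyp F π) (k : ℕ) (x : Γ(L.X k, U)) :
    eta F L k U x = 0 ↔ x ∈ RingHom.ker (F.app U).hom • (⊤ : Submodule Γ(M, U) Γ(L.X k, U)) :=
  FSchCoh.pullSect_eq_zero_iff F (h.qcX k) ⟨U, hU⟩ x

include hU in
theorem eta_surjective (h : Hyp F π) (k : ℕ) : Function.Surjective (eta F L k U) :=
  FSchCoh.pullSect_surjective F (h.qcX k) ⟨U, hU⟩

theorem eta_res (k : ℕ) {U' : M.Opens} (e : U' ≤ U) (x : Γ(L.X k, U)) :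
    eta F L k U' (res (L.X k) e x) = res ((pullCx F L).X k) (F.preimage_mono e) (eta F L k U x) :=
  OmegaSh.pullSect_map F (L.X k) e x

theorem eta_mem (k : ℕ) (z : (aug h hU).Z (RingHom.ker (F.app U).hom) k) :
    eta F L k U z.1 ∈ secZ (pullCx F L) k (F ⁻¹ᵁ U) := by
  rcases k with _ | k
  · exact mem_secZ_zero _ _ _
  · rw [mem_secZ_succ, ← eta_d]
    exact (eta_eq_zero_iff hU h k _).2 z.2

/-- From the homology on sections to the homology sheaf. -/
def toH (k : ℕ) : (aug h hU).Z (RingHom.ker (F.app U).hom) k →+ Γ((pullCx F L).homology k, F ⁻¹ᵁ U) where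
  toFun z := hs _ k _ ⟨eta F L k U z.1, eta_mem h hU k z⟩
  map_zero' := by
    rw [← map_zero (hs (pullCx F L) k (F ⁻¹ᵁ U))]
    exact congrArg _ (Subtype.ext (map_zero (eta F L k U)))
  map_add' a b := by
    rw [← map_add]
    exact congrArg _ (Subtype.ext (map_add (eta F L k U) a.1 b.1))

theorem toH_surjective (k : ℕ) : Function.Surjective (toH h hU k) := fun c => by
  obtain ⟨y, rfl⟩ := hs_surjective h.qcP (hU.preimage F) c
  obtain ⟨x, hx⟩ := eta_surjective hU h k y.1
  refine ⟨⟨x, ?_⟩, show hs (pullCx F L) k (F ⁻¹ᵁ U) _ = _ from congrArg _ (Subtype.ext hx)⟩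
  rcases k with _ | k
  · trivial
  · rw [Aug.mem_Z_succ]
    refine (eta_eq_zero_iff hU h k _).1 ?_
    show eta F L k U ((L.d (k + 1) k).app U x) = 0
    rw [eta_d, hx]
    exact (mem_secZ_succ _ k _).1 y.2

theorem toH_eq_zero_iff (k : ℕ) (z : (aug h hU).Z (RingHom.ker (F.app U).hom) k) :
    toH h hU k z = 0 ↔ z.1 ∈ (aug h hU).B (RingHom.ker (F.app U).hom) k := by
  show hs _ k _ _ = 0 ↔ _
  rw [hs_eq_zero_iff h.qcP (hU.preimage F)]
  constructor
  · rintro ⟨w, hw⟩
    obtain ⟨w', rfl⟩ := eta_surjective hU h (k + 1) w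
    rw [← eta_d] at hw
    have h0 : eta F L k U ((show Γ(L.X k, U) from z.1) - (L.d (k + 1) k).app U w') = 0 := by
      rw [map_sub, sub_eq_zero]; exact hw.symm
    have e : (aug h hU).d k w' + (show (aug h hU).P k from (show Γ(L.X k, U) from z.1) - (L.d (k + 1) k).app U w') =
        (show (aug h hU).P k from z.1) := add_sub_cancel ((L.d (k + 1) k).app U w') (show Γ(L.X k, U) from z.1)
    rw [show z.1 = (show (aug h hU).P k from z.1) from rfl, ← e]
    exact add_mem ((aug h hU).d_mem_B (RingHom.ker (F.app U).hom) w')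
      ((aug h hU).smul_top_le_B _ k ((eta_eq_zero_iff hU h k _).1 h0))
  · intro hz
    obtain ⟨_, ⟨w, rfl⟩, v, hv, e⟩ := Submodule.mem_sup.1 hz
    refine ⟨eta F L (k + 1) U w, ?_⟩
    rw [← eta_d]
    show eta F L k U ((aug h hU).d k w) = eta F L k U z.1
    rw [← e]
    exact ((map_add (eta F L k U) ((aug h hU).d k w) v).trans
      ((congrArg (eta F L k U ((aug h hU).d k w) + ·) ((eta_eq_zero_iff hU h k v).2 hv)).trans (add_zero _))).symm

/-- The identification. -/
def nu (k : ℕ) : (aug h hU).H (RingHom.ker (F.app U).hom) k ≃+ Γ((pullCx F L).homology k, F ⁻¹ᵁ U) :=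
  AddEquiv.ofBijective
    (QuotientAddGroup.lift _ (toH h hU k) fun z hz => (toH_eq_zero_iff h hU k z).2 hz)
    ⟨(injective_iff_map_eq_zero _).2 fun c hc => by
      obtain ⟨z, rfl⟩ := Submodule.Quotient.mk_surjective _ c
      exact (Submodule.Quotient.mk_eq_zero _).2 ((toH_eq_zero_iff h hU k z).1 hc),
    fun c => by obtain ⟨z, rfl⟩ := toH_surjective h hU k c; exact ⟨Submodule.Quotient.mk z, rfl⟩⟩

theorem nu_cls (k : ℕ) (z : (aug h hU).Z (RingHom.ker (F.app U).hom) k) :
    nu h hU k (Aug.cls _ _ k z) = hs _ k _ ⟨eta F L k U z.1, eta_mem h hU k z⟩ := rfl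

theorem nu_smul (k : ℕ) (a : Γ(M, U)) (c : (aug h hU).H (RingHom.ker (F.app U).hom) k) :
    nu h hU k (a • c) = (F.app U).hom a • nu h hU k c := by
  obtain ⟨z, rfl⟩ := (aug h hU).cls_surjective _ k c
  rw [← map_smul, nu_cls, nu_cls, ← map_smul (hs (pullCx F L) k (F ⁻¹ᵁ U))]
  exact congrArg _ (Subtype.ext (OmegaSh.pullSect_smul F (L.X k) U a z.1))

/-- The operator of a vanishing function. -/
abbrev opI (a : RingHom.ker (F.app U).hom) (k : ℕ) :
    (aug h hU).H (RingHom.ker (F.app U).hom) k →ₗ[Γ(M, U)] (aug h hU).H (RingHom.ker (F.app U).hom) (k + 1) :=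
  Aug.opL (aug_isProj h hU) (aug_kills h hU) k a

theorem opI_sq (k : ℕ) (a : RingHom.ker (F.app U).hom) (ha : a.1 ∈ RingHom.ker (F.app U).hom ^ 2) :
    opI h hU a k = 0 := by
  let I := RingHom.ker (F.app U).hom
  suffices ∀ b : Γ(M, U), b ∈ I ^ 2 → ∀ hb : b ∈ I, opI h hU ⟨b, hb⟩ k = 0 from this a.1 ha a.2
  intro b hb
  rw [pow_two] at hb
  refine (Submodule.mul_induction_on (C := fun x => x ∈ I ∧ ∀ hb : x ∈ I, opI h hU ⟨x, hb⟩ k = 0) hb
    (fun p hp q hq => ⟨I.mul_mem_left p hq, fun hpq => ?_⟩) fun p q hp hq => ⟨add_mem hp.1 hq.1, fun hpq => ?_⟩).2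
  · rw [show (⟨p * q, hpq⟩ : I) = p • ⟨q, hq⟩ from Subtype.ext rfl]
    exact Aug.opL_sq_zero _ _ k _ p hp
  · obtain ⟨hp', hp⟩ := hp
    obtain ⟨hq', hq⟩ := hq
    rw [show (⟨p + q, hpq⟩ : I) = ⟨p, hp'⟩ + ⟨q, hq'⟩ from Subtype.ext rfl]
    show Aug.opL _ _ k _ = 0
    rw [map_add, show Aug.opL _ _ k ⟨p, hp'⟩ = 0 from hp hp', show Aug.opL _ _ k ⟨q, hq'⟩ = 0 from hq hq', add_zero]

end Groth.Agent.TorWedge
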