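import Groth.Agent.TorWedge.Comp
import Groth.Agent.SGA6Ext.Main
import Groth.Agent.PBundle.Chart

/-!
# The morphism `⋀^k(conormal) ⊗ E → H_k(F^* L)`
-/

set_option autoImplicit false
set_option linter.style.haveILetI false
set_option linter.unusedSectionVars false
set_option backward.isDefEq.respectTransparency false
set_option backward.isDefEq.respectTransparency.types false
set_option maxHeartbeats 1000000

universe u

open CategoryTheory CategoryTheory.Limits AlgebraicGeometry Opposite TopologicalSpace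

noncomputable section

namespace Groth.Agent.TorWedge

open Groth.Agent.QC (res resO res_res res_smul section_eq_of_locally)

variable {P M : Scheme.{u}} {F : P ⟶ M} [IsClosedImmersion F] {E : P.Modules}
  {L : ChainComplex M.Modules ℕ}
  {π : L ⟶ (ChainComplex.single₀ M.Modules).obj ((Scheme.Modules.pushforward F).obj E)}
  (h : Hyp F π) {U : M.Opens} (hU : IsAffineOpen U)

variable (F) in
theorem chartOf (hU : IsAffineOpen U) : Conormal.IsChart F U :=
  ⟨hU, IsZariskiLocalAtTarget.restrict ‹IsClosedImmersion F› U⟩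

variable (F) in
/-- A section of the ideal as a vanishing function. -/
def vanI (s : Γ(ClSub.idealMod F.ker, U)) : RingHom.ker (F.app U).hom :=
  ⟨OmegaSh.idealSect F.ker U s, Conormal.app_idealSect F U s⟩

/-- A chosen lift of a conormal section. -/
def liftN (n : Γ(Omega.conormal F, F ⁻¹ᵁ U)) : Γ(ClSub.idealMod F.ker, U) :=
  (Conormal.conormalSect_surjective F (chartOf F hU) n).choose

/-- The operator of a conormal section. -/
def opV (k : ℕ) (n : Γ(Omega.conormal F, F ⁻¹ᵁ U)) :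
    Γ((pullCx F L).homology k, F ⁻¹ᵁ U) →+ Γ((pullCx F L).homology (k + 1), F ⁻¹ᵁ U) :=
  ((nu h hU (k + 1)).toAddMonoidHom.comp (opI h hU (vanI F (liftN hU n)) k).toAddMonoidHom).comp
    (nu h hU k).symm.toAddMonoidHom

theorem opV_cls (k : ℕ) (s : Γ(ClSub.idealMod F.ker, U))
    (c : (aug h hU).H (RingHom.ker (F.app U).hom) k) :
    opV h hU k (OmegaSh.conormalSect F U s) (nu h hU k c) = nu h hU (k + 1) (opI h hU (vanI F s) k c) := by
  let t := liftN (F := F) hU (OmegaSh.conormalSect F U s)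
  have ht : OmegaSh.conormalSect F U t = OmegaSh.conormalSect F U s :=
    (Conormal.conormalSect_surjective F (chartOf F hU) _).choose_spec
  have h2 : opI h hU (vanI F (t - s)) k = 0 := opI_sq h hU k _
    ((Conormal.conormalSect_eq_zero_iff F (chartOf F hU) (t - s)).1 (by rw [map_sub, ht, sub_self]))
  have h3 : vanI F (t - s) = vanI F t - vanI F s := Subtype.ext (map_sub (OmegaSh.idealSect F.ker U) t s)
  rw [h3] at h2
  have h4 : opI h hU (vanI F t) k = opI h hU (vanI F s) k :=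
    sub_eq_zero.1 ((map_sub (Aug.opL (aug_isProj h hU) (aug_kills h hU) k) (vanI F t) (vanI F s)).symm.trans h2)
  show nu h hU (k + 1) (opI h hU (vanI F t) k ((nu h hU k).symm (nu h hU k c))) = _
  rw [AddEquiv.symm_apply_apply, h4]

theorem opV_add_left (k : ℕ) (n n' : Γ(Omega.conormal F, F ⁻¹ᵁ U)) (y : Γ((pullCx F L).homology k, F ⁻¹ᵁ U)) :
    opV h hU k (n + n') y = opV h hU k n y + opV h hU k n' y := by
  obtain ⟨s, rfl⟩ := Conormal.conormalSect_surjective F (chartOf F hU) n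
  obtain ⟨s', rfl⟩ := Conormal.conormalSect_surjective F (chartOf F hU) n'
  obtain ⟨c, rfl⟩ := (nu h hU k).surjective y
  rw [← map_add (OmegaSh.conormalSect F U).hom, opV_cls, opV_cls, opV_cls, ← map_add]
  congr 1
  rw [show vanI F (s + s') = vanI F s + vanI F s' from Subtype.ext (map_add (OmegaSh.idealSect F.ker U) s s')]
  exact LinearMap.congr_fun (map_add (Aug.opL (aug_isProj h hU) (aug_kills h hU) k) _ _) c

theorem opV_smul_left (k : ℕ) (b : Γ(P, F ⁻¹ᵁ U)) (n : Γ(Omega.conormal F, F ⁻¹ᵁ U))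
    (y : Γ((pullCx F L).homology k, F ⁻¹ᵁ U)) : opV h hU k (b • n) y = b • opV h hU k n y := by
  obtain ⟨a, rfl⟩ := F.app_surjective U hU b
  obtain ⟨s, rfl⟩ := Conormal.conormalSect_surjective F (chartOf F hU) n
  obtain ⟨c, rfl⟩ := (nu h hU k).surjective y
  rw [← Conormal.conormalSect_smul, opV_cls, opV_cls, ← nu_smul]
  congr 1
  rw [show vanI F (a • s) = a • vanI F s from Subtype.ext (Conormal.idealSect_smul F.ker U a s)]
  exact LinearMap.congr_fun (map_smul (Aug.opL (aug_isProj h hU) (aug_kills h hU) k) a _) c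

theorem opV_smul_right (k : ℕ) (b : Γ(P, F ⁻¹ᵁ U)) (n : Γ(Omega.conormal F, F ⁻¹ᵁ U))
    (y : Γ((pullCx F L).homology k, F ⁻¹ᵁ U)) : opV h hU k n (b • y) = b • opV h hU k n y := by
  obtain ⟨a, rfl⟩ := F.app_surjective U hU b
  obtain ⟨s, rfl⟩ := Conormal.conormalSect_surjective F (chartOf F hU) n
  obtain ⟨c, rfl⟩ := (nu h hU k).surjective y
  rw [← nu_smul, opV_cls, opV_cls, ← nu_smul, map_smul]

/-- The operators of conormal sections over the preimage of an affine open. -/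
def opsV : Ops Γ(P, F ⁻¹ᵁ U) where
  N := ModuleCat.of Γ(P, F ⁻¹ᵁ U) Γ(Omega.conormal F, F ⁻¹ᵁ U)
  H k := ModuleCat.of Γ(P, F ⁻¹ᵁ U) Γ((pullCx F L).homology k, F ⁻¹ᵁ U)
  op k := LinearMap.mk₂ _ (fun n y => opV h hU k n y) (fun n n' y => opV_add_left h hU k n n' y)
    (fun b n y => opV_smul_left h hU k b n y) (fun n y y' => map_add (opV h hU k n) y y')
    (fun b n y => opV_smul_right h hU k b n y)
  op_sq k n x := by
    show opV h hU (k + 1) n (opV h hU k n x) = 0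
    obtain ⟨s, rfl⟩ := Conormal.conormalSect_surjective F (chartOf F hU) n
    obtain ⟨c, rfl⟩ := (nu h hU k).surjective x
    rw [opV_cls, opV_cls, show opI h hU (vanI F s) (k + 1) (opI h hU (vanI F s) k c) = 0 from
      Aug.opA_sq (aug_isProj h hU) (aug_kills h hU) (vanI F s) k c, map_zero]

theorem toQ_bijective : Function.Bijective (Aug.toQ (aug_kills h hU)) :=
  ⟨Aug.toQ_injective _, fun q => by
    obtain ⟨x, hx⟩ := aug_surj h hU q
    exact ⟨Aug.cls _ _ 0 ⟨x, trivial⟩, hx⟩⟩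

/-- The class in degree zero of a section of the module. -/
def q0 (e : Γ(E, F ⁻¹ᵁ U)) : Γ((pullCx F L).homology 0, F ⁻¹ᵁ U) :=
  nu h hU 0 ((LinearEquiv.ofBijective (Aug.toQ (aug_kills h hU)) (toQ_bijective h hU)).symm e)

theorem q0_toQ (c : (aug h hU).H (RingHom.ker (F.app U).hom) 0) :
    q0 h hU (Aug.toQ (aug_kills h hU) c) = nu h hU 0 c :=
  congrArg _ ((LinearEquiv.ofBijective _ (toQ_bijective h hU)).symm_apply_apply c)

theorem q0_add (e e' : Γ(E, F ⁻¹ᵁ U)) : q0 h hU (e + e') = q0 h hU e + q0 h hU e' := by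
  obtain ⟨c, rfl⟩ := (toQ_bijective h hU).2 e
  obtain ⟨c', rfl⟩ := (toQ_bijective h hU).2 e'
  rw [q0_toQ, q0_toQ, ← map_add]
  exact (congrArg (q0 h hU) (map_add (Aug.toQ (aug_kills h hU)) c c').symm).trans (q0_toQ h hU _)

theorem q0_smul (b : Γ(P, F ⁻¹ᵁ U)) (e : Γ(E, F ⁻¹ᵁ U)) : q0 h hU (b • e) = b • q0 h hU e := by
  obtain ⟨a, rfl⟩ := F.app_surjective U hU b
  obtain ⟨c, rfl⟩ := (toQ_bijective h hU).2 e
  rw [q0_toQ, ← nu_smul]
  exact (congrArg (q0 h hU) (map_smul (Aug.toQ (aug_kills h hU)) a c).symm).trans (q0_toQ h hU _)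

section Compat

variable {U' : M.Opens} (hU' : IsAffineOpen U') (e : U' ≤ U)

theorem res_ker {a : Γ(M, U)} (ha : a ∈ RingHom.ker (F.app U).hom) :
    resO M e a ∈ RingHom.ker (F.app U').hom := by
  rw [RingHom.mem_ker] at ha ⊢
  refine (ConcreteCategory.congr_hom (F.naturality (homOfLE e).op) a).trans ?_
  show resO P (F.preimage_mono e) ((F.app U).hom a) = 0
  rw [ha, map_zero]

/-- Restriction of sections as a semilinear map. -/
def rho (k : ℕ) : (aug h hU).P k →ₛₗ[resO M e] (aug h hU').P k where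
  toFun x := res (L.X k) e x
  map_add' x y := map_add (res (L.X k) e) x y
  map_smul' a x := res_smul (L.X k) e a x

theorem rho_mem_Z : ∀ (k : ℕ) (z : (aug h hU).Z (RingHom.ker (F.app U).hom) k),
    rho h hU hU' e k z.1 ∈ (aug h hU').Z (RingHom.ker (F.app U').hom) k
  | 0, _ => trivial
  | k + 1, z => by
    rw [Aug.mem_Z_succ]
    show (L.d (k + 1) k).app U' (res (L.X (k + 1)) e z.1) ∈ _
    rw [← QC.app_res]
    refine (eta_eq_zero_iff hU' h k _).1 ?_
    rw [eta_res]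
    exact (congrArg _ ((eta_eq_zero_iff hU h k _).2 z.2)).trans (map_zero _)

theorem res_nu (k : ℕ) (z : (aug h hU).Z (RingHom.ker (F.app U).hom) k) :
    res ((pullCx F L).homology k) (F.preimage_mono e) (nu h hU k (Aug.cls _ _ k z)) =
      nu h hU' k (Aug.cls _ _ k ⟨rho h hU hU' e k z.1, rho_mem_Z h hU hU' e k z⟩) := by
  rw [nu_cls, nu_cls]
  have hy : res ((pullCx F L).X k) (F.preimage_mono e) (eta F L k U z.1) ∈ secZ (pullCx F L) k (F ⁻¹ᵁ U') := by
    rw [← eta_res]; exact eta_mem h hU' k ⟨_, rho_mem_Z h hU hU' e k z⟩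
  rw [res_hs _ k _ (F.preimage_mono e) _ hy]
  exact congrArg _ (Subtype.ext (eta_res k e z.1).symm)

theorem res_opV_le (k : ℕ) (n : Γ(Omega.conormal F, F ⁻¹ᵁ U)) (y : Γ((pullCx F L).homology k, F ⁻¹ᵁ U)) :
    res ((pullCx F L).homology (k + 1)) (F.preimage_mono e) (opV h hU k n y) =
      opV h hU' k (res (Omega.conormal F) (F.preimage_mono e) n)
        (res ((pullCx F L).homology k) (F.preimage_mono e) y) := by
  obtain ⟨s, rfl⟩ := Conormal.conormalSect_surjective F (chartOf F hU) n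
  obtain ⟨c, rfl⟩ := (nu h hU k).surjective y
  obtain ⟨z, rfl⟩ := (aug h hU).cls_surjective _ k c
  rw [Conormal.res_conormalSect, opV_cls, res_nu h hU hU' e k z, opV_cls]
  have hs : (vanI F (res (ClSub.idealMod F.ker) e s)).1 = resO M e (vanI F s).1 := Conormal.idealSect_res F.ker e s
  let H := (Aug.nonempty_htpy (aug_isProj h hU) (aug_kills h hU _ (vanI F s).2)).some
  obtain ⟨H'⟩ := Aug.nonempty_htpy (aug_isProj h hU') (aug_kills h hU' _ (res_ker e (vanI F s).2))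
  obtain ⟨H'', hH''⟩ : ∃ G : (aug h hU').Htpy (vanI F (res (ClSub.idealMod F.ker) e s)).1,
      ∀ x, G.h k x = H'.h k x := by
    rw [hs]; exact ⟨H', fun x => rfl⟩
  show res _ _ (nu h hU (k + 1) (Aug.opA (aug_isProj h hU) (aug_kills h hU) (vanI F s) k (Aug.cls _ _ k z))) =
    nu h hU' (k + 1) (Aug.opA (aug_isProj h hU') (aug_kills h hU') (vanI F (res (ClSub.idealMod F.ker) e s)) k _)
  rw [Aug.opA_cls _ _ _ H, Aug.opA_cls _ _ _ H'', res_nu h hU hU' e]
  refine congrArg _ ((Aug.cls_eq _).2 ?_)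
  show rho h hU hU' e (k + 1) (H.h k z.1) - H''.h k (rho h hU hU' e k z.1) ∈ _
  rw [hH'']
  exact Aug.Htpy.sub_mem_B_semilinear (aug_isProj h hU) (resO M e) (fun a ha => res_ker e ha)
    (rho h hU hU' e) (fun k x => (QC.app_res (L.d (k + 1) k) e x).symm) H H' k z.1 z.2

theorem res_q0 (x : Γ(E, F ⁻¹ᵁ U)) :
    res ((pullCx F L).homology 0) (F.preimage_mono e) (q0 h hU x) = q0 h hU' (res E (F.preimage_mono e) x) := by
  obtain ⟨c, rfl⟩ := (toQ_bijective h hU).2 x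
  obtain ⟨z, rfl⟩ := (aug h hU).cls_surjective _ 0 c
  rw [q0_toQ, res_nu h hU hU' e 0 z, ← q0_toQ]
  refine congrArg (q0 h hU') ?_
  show (π.f 0).app U' (res (L.X 0) e z.1) = res ((Scheme.Modules.pushforward F).obj E) e ((π.f 0).app U z.1)
  exact (QC.app_res (π.f 0) e z.1).symm

end Compat

/-- Any two affine opens give compatible operators. -/
theorem res_opV {U' : M.Opens} (hU' : IsAffineOpen U') (e : F ⁻¹ᵁ U' ≤ F ⁻¹ᵁ U) (k : ℕ)
    (n : Γ(Omega.conormal F, F ⁻¹ᵁ U)) (y : Γ((pullCx F L).homology k, F ⁻¹ᵁ U)) :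
    res ((pullCx F L).homology (k + 1)) e (opV h hU k n y) =
      opV h hU' k (res (Omega.conormal F) e n) (res ((pullCx F L).homology k) e y) := by
  refine section_eq_of_locally fun x hx => ?_
  obtain ⟨U'', hU'', hx'', hle⟩ := exists_isAffineOpen_mem_and_subset
    (show F.base x ∈ U ⊓ U' from ⟨e hx, hx⟩)
  refine ⟨F ⁻¹ᵁ U'', F.preimage_mono (hle.trans inf_le_right), hx'', ?_⟩
  rw [res_res, res_opV_le h hU hU'' (hle.trans inf_le_left), res_opV_le h hU' hU'' (hle.trans inf_le_right),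
    res_res, res_res]

theorem res_q0' {U' : M.Opens} (hU' : IsAffineOpen U') (e : F ⁻¹ᵁ U' ≤ F ⁻¹ᵁ U) (y : Γ(E, F ⁻¹ᵁ U)) :
    res ((pullCx F L).homology 0) e (q0 h hU y) = q0 h hU' (res E e y) := by
  refine section_eq_of_locally fun x hx => ?_
  obtain ⟨U'', hU'', hx'', hle⟩ := exists_isAffineOpen_mem_and_subset
    (show F.base x ∈ U ⊓ U' from ⟨e hx, hx⟩)
  refine ⟨F ⁻¹ᵁ U'', F.preimage_mono (hle.trans inf_le_right), hx'', ?_⟩
  rw [res_res, res_q0 h hU hU'' (hle.trans inf_le_left), res_q0 h hU' hU'' (hle.trans inf_le_right), res_res]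

/-- `Λ^k N × E → H_k` on the preimage of an affine open. -/
def bilU {k : ℕ} {Lk : P.Modules} (φ : SGA6Ext.Phi k (Omega.conormal F) Lk) :
    Γ(Lk, F ⁻¹ᵁ U) →ₗ[Γ(P, F ⁻¹ᵁ U)] Γ(E, F ⁻¹ᵁ U) →ₗ[Γ(P, F ⁻¹ᵁ U)] Γ((pullCx F L).homology k, F ⁻¹ᵁ U) :=
  LinearMap.mk₂ _
    (fun m x => (opsV h hU).wedge k (φ ⟨F ⁻¹ᵁ U, hU.preimage F⟩ m) (q0 h hU x))
    (fun m m' x => by simp only [map_add, LinearMap.add_apply])
    (fun b m x => by simp only [map_smul, LinearMap.smul_apply])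
    (fun m x x' => by rw [q0_add]; exact map_add ((opsV h hU).wedge k _) (q0 h hU x) (q0 h hU x'))
    (fun b m x => by rw [q0_smul]; exact map_smul ((opsV h hU).wedge k _) b (q0 h hU x))

theorem res_wedge {U' : M.Opens} (hU' : IsAffineOpen U') (e : F ⁻¹ᵁ U' ≤ F ⁻¹ᵁ U) (k : ℕ)
    (z : ↥(⋀[Γ(P, F ⁻¹ᵁ U)]^k Γ(Omega.conormal F, F ⁻¹ᵁ U)))
    (c : Γ((pullCx F L).homology 0, F ⁻¹ᵁ U)) :
    res ((pullCx F L).homology k) e ((opsV h hU).wedge k z c) =
      (opsV h hU').wedge k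
        (SGA6Ext.extS (resO P e) (SGA6Ext.secRes (Omega.conormal F) e) (SGA6Ext.secRes_smul _ e) k z)
        (res ((pullCx F L).homology 0) e c) := by
  have hz : z ∈ Submodule.span Γ(P, F ⁻¹ᵁ U) (Set.range (exteriorPower.ιMulti Γ(P, F ⁻¹ᵁ U) k)) := by
    rw [exteriorPower.ιMulti_span]; trivial
  induction hz using Submodule.span_induction with
  | zero => simp only [map_zero, LinearMap.zero_apply]
  | add a b _ _ ha hb =>
    calc res ((pullCx F L).homology k) e ((opsV h hU).wedge k (a + b) c)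
        = res ((pullCx F L).homology k) e ((opsV h hU).wedge k a c + (opsV h hU).wedge k b c) :=
          congrArg _ (LinearMap.congr_fun (map_add ((opsV h hU).wedge k) a b) c)
      _ = _ := (map_add _ _ _).trans ((congrArg₂ (· + ·) ha hb).trans (by
          rw [map_add (SGA6Ext.extS _ _ _ k)]
          exact (LinearMap.congr_fun (map_add ((opsV h hU').wedge k) _ _) _).symm))
  | smul r a _ ha =>
    calc res ((pullCx F L).homology k) e ((opsV h hU).wedge k (r • a) c)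
        = res ((pullCx F L).homology k) e (r • (opsV h hU).wedge k a c) :=
          congrArg _ (LinearMap.congr_fun (map_smul ((opsV h hU).wedge k) r a) c)
      _ = _ := (res_smul _ e r _).trans ((congrArg (resO P e r • ·) ha).trans (by
          rw [SGA6Ext.extS_smul]
          exact (LinearMap.congr_fun (map_smul ((opsV h hU').wedge k) (resO P e r) _) _).symm))
  | mem a ha =>
    obtain ⟨v, rfl⟩ := ha
    calc res ((pullCx F L).homology k) e ((opsV h hU).wedge k (exteriorPower.ιMulti Γ(P, F ⁻¹ᵁ U) k v) c)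
        = res ((pullCx F L).homology k) e ((opsV h hU).omega k v c) :=
          congrArg _ ((opsV h hU).wedge_ιMulti k v c)
      _ = _ := ((opsV h hU).omega_natural (opsV h hU') (fun n => res (Omega.conormal F) e n)
            (fun k y => res ((pullCx F L).homology k) e y) (fun k n y => res_opV h hU hU' e k n y) k v c).trans (by
          exact ((opsV h hU').wedge_ιMulti k _ _).symm.trans (congrArg (fun t => (opsV h hU').wedge k t _)
            (SGA6Ext.extS_ιMulti (σ := resO P e) (SGA6Ext.secRes (Omega.conormal F) e)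
              (SGA6Ext.secRes_smul _ e) k v).symm))

theorem res_bilU {k : ℕ} {Lk : P.Modules} {φ : SGA6Ext.Phi k (Omega.conormal F) Lk} (hφ : SGA6Ext.PhiCompat φ)
    {U' : M.Opens} (hU' : IsAffineOpen U') (e : F ⁻¹ᵁ U' ≤ F ⁻¹ᵁ U) (m : Γ(Lk, F ⁻¹ᵁ U)) (x : Γ(E, F ⁻¹ᵁ U)) :
    res ((pullCx F L).homology k) e (bilU h hU φ m x) = bilU h hU' φ (res Lk e m) (res E e x) := by
  show res _ e ((opsV h hU).wedge k (φ ⟨F ⁻¹ᵁ U, hU.preimage F⟩ m) (q0 h hU x)) =
    (opsV h hU').wedge k (φ ⟨F ⁻¹ᵁ U', hU'.preimage F⟩ (res Lk e m)) (q0 h hU' (res E e x))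
  rw [← res_q0' h hU hU' e]
  have hres : φ ⟨F ⁻¹ᵁ U', hU'.preimage F⟩ (res Lk e m) =
      SGA6Ext.extS (resO P e) (SGA6Ext.secRes (Omega.conormal F) e) (SGA6Ext.secRes_smul _ e) k
        (φ ⟨F ⁻¹ᵁ U, hU.preimage F⟩ m) :=
    SGA6Ext.phi_res hφ ⟨F ⁻¹ᵁ U, hU.preimage F⟩ ⟨F ⁻¹ᵁ U', hU'.preimage F⟩ e m
  rw [hres]
  exact res_wedge h hU hU' e k _ _

/-- The opens on which the comparison is given by a formula. -/
def IsPre (F : P ⟶ M) (V : P.Opens) : Prop := ∃ U : M.Opens, IsAffineOpen U ∧ F ⁻¹ᵁ U = V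

variable (F) in
theorem isBase_isPre : SGA6Ext.IsBase (IsPre F) := fun O x hx => by
  obtain ⟨W, hW, hWO⟩ := (F.isClosedEmbedding.toIsInducing.isOpen_iff (s := (O : Set P))).1 O.2
  have hxW : F.base x ∈ (⟨W, hW⟩ : M.Opens) := by
    show x ∈ F.base ⁻¹' W
    rw [hWO]; exact hx
  obtain ⟨U, hU, hxU, hUW⟩ := exists_isAffineOpen_mem_and_subset hxW
  refine ⟨F ⁻¹ᵁ U, ⟨U, hU, rfl⟩, hxU, fun y hy => ?_⟩
  show y ∈ (O : Set P)
  rw [← hWO]
  exact hUW hy

/-- Transport of the local formula. -/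
def bilAt {k : ℕ} {Lk : P.Modules} (φ : SGA6Ext.Phi k (Omega.conormal F) Lk) {V : P.Opens} (hV : IsPre F V) :
    Γ(Lk, V) →ₗ[Γ(P, V)] Γ(E, V) →ₗ[Γ(P, V)] Γ((pullCx F L).homology k, V) :=
  hV.choose_spec.2 ▸ bilU h hV.choose_spec.1 φ

theorem bilAt_eq {k : ℕ} {Lk : P.Modules} {φ : SGA6Ext.Phi k (Omega.conormal F) Lk} (hφ : SGA6Ext.PhiCompat φ)
    (hV : IsPre F (F ⁻¹ᵁ U)) (m : Γ(Lk, F ⁻¹ᵁ U)) (x : Γ(E, F ⁻¹ᵁ U)) :
    bilAt h φ hV m x = bilU h hU φ m x := by
  have key : ∀ (V : P.Opens) (U₁ : M.Opens) (h₁ : IsAffineOpen U₁) (e₁ : F ⁻¹ᵁ U₁ = V) (eV : F ⁻¹ᵁ U = V)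
      (m : Γ(Lk, V)) (x : Γ(E, V)),
      ((e₁ ▸ bilU h h₁ φ :) : Γ(Lk, V) →ₗ[Γ(P, V)] Γ(E, V) →ₗ[Γ(P, V)] Γ((pullCx F L).homology k, V)) m x =
      ((eV ▸ bilU h hU φ :) : Γ(Lk, V) →ₗ[Γ(P, V)] Γ(E, V) →ₗ[Γ(P, V)] Γ((pullCx F L).homology k, V)) m x := by
    intro V U₁ h₁ e₁ eV m x
    subst e₁
    have hc := res_bilU h h₁ hφ hU eV.le (k := k) (U := U₁) m x
    have hc' : ∀ (W : P.Opens) (ew : F ⁻¹ᵁ U = W) (m' : Γ(Lk, W)) (x' : Γ(E, W)) (B : Γ(Lk, F ⁻¹ᵁ U) →ₗ[Γ(P, F ⁻¹ᵁ U)] Γ(E, F ⁻¹ᵁ U) →ₗ[Γ(P, F ⁻¹ᵁ U)] Γ((pullCx F L).homology k, F ⁻¹ᵁ U)),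
        res ((pullCx F L).homology k) ew.ge (B (res Lk ew.le m') (res E ew.le x')) =
          ((ew ▸ B :) : Γ(Lk, W) →ₗ[Γ(P, W)] Γ(E, W) →ₗ[Γ(P, W)] Γ((pullCx F L).homology k, W)) m' x' := by
      intro W ew m' x' B
      subst ew
      rw [QC.res_self, QC.res_self, QC.res_self]
    rw [← hc' _ eV m x, ← hc, res_res, QC.res_self]
  exact key _ _ hV.choose_spec.1 hV.choose_spec.2 rfl m x

end Groth.Agent.TorWedge
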