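import Groth.Agent.TorWedge.Lift
import Groth.Agent.KoszulLib.Basic
import Mathlib.LinearAlgebra.ExteriorPower.Basic
import Mathlib.LinearAlgebra.Pi

/-!
# The Koszul complex as an augmented acyclic complex
-/

set_option autoImplicit false

universe u

noncomputable section

namespace Groth.Agent.TorWedge

open Wiebe

variable {A : Type u} [CommRing A]

/-- The component of degree `k`. -/
def proj : ∀ {n : ℕ}, ℕ → (X A n →ₗ[A] X A n)
  | 0, 0 => LinearMap.id
  | 0, _ + 1 => 0
  | _ + 1, 0 => mk ∘ₗ ((proj 0 ∘ₗ p0).prod 0)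
  | _ + 1, k + 1 => mk ∘ₗ ((proj (k + 1) ∘ₗ p0).prod (proj k ∘ₗ p1))

theorem p0_proj {n : ℕ} (k : ℕ) (z : X A (n + 1)) : p0 (proj k z) = proj k (p0 z) := by
  cases k <;> simp [proj]

@[simp] theorem p1_proj_zero {n : ℕ} (z : X A (n + 1)) : p1 (proj 0 z) = 0 := by simp [proj]

@[simp] theorem p1_proj_succ {n : ℕ} (k : ℕ) (z : X A (n + 1)) : p1 (proj (k + 1) z) = proj k (p1 z) := by
  simp [proj]

theorem proj_proj : ∀ {n : ℕ} (k : ℕ) (z : X A n), proj k (proj k z) = proj k z := by
  intro n
  induction n with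
  | zero => rintro (_ | k) z <;> simp [proj]
  | succ n ih => rintro (_ | k) z <;> apply ext' <;> simp [p0_proj, ih]

theorem proj_zero : ∀ {n : ℕ} (z : X A n), proj 0 z = eps z • bot A n := by
  intro n
  induction n with
  | zero =>
    intro z
    ext s
    simp [proj, eps, bot, Subsingleton.elim s Fin.elim0]
  | succ n ih => intro z; apply ext' <;> simp [p0_proj, ih, eps, bot]

theorem proj_bot_succ : ∀ {n : ℕ} (k : ℕ), proj (k + 1) (bot A n) = 0 := by
  intro n
  induction n with
  | zero => intro k; simp [proj]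
  | succ n ih => intro k; apply ext' <;> simp [p0_proj, ih, bot]

theorem eps_proj_succ : ∀ {n : ℕ} (k : ℕ) (z : X A n), eps (proj (k + 1) z) = 0 := by
  intro n
  induction n with
  | zero => intro k z; simp [proj]
  | succ n ih => intro k z; simp [eps, p0_proj, ih]

theorem d_proj : ∀ {n : ℕ} (f : Fin n → A) (k : ℕ) (z : X A n), d f (proj (k + 1) z) = proj k (d f z) := by
  intro n
  induction n with
  | zero => intro f k z; simp [d]
  | succ n ih =>
    intro f k z
    apply ext'
    · simp [p0_proj, ih]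
    · rcases k with _ | k
      · simp only [p1_d, p1_proj_succ, proj_zero (p1 z), map_smul, d_bot, smul_zero, neg_zero, p1_proj_zero]
      · simp [ih]

theorem w_proj : ∀ {n : ℕ} (v : Fin n → A) (k : ℕ) (z : X A n), w v (proj k z) = proj (k + 1) (w v z) := by
  intro n
  induction n with
  | zero => intro v k z; simp [w]
  | succ n ih =>
    intro v k z
    apply ext'
    · simp [p0_proj, ih]
    · rcases k with _ | k
      · simp [p0_proj, proj_zero (p0 z), proj_zero (w (Fin.tail v) (p1 z)), eps_w]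
      · simp [p0_proj, ← ih]

/-- The elements of degree `k`. -/
def T (A : Type u) [CommRing A] (n k : ℕ) : Submodule A (X A n) := LinearMap.ker (proj (n := n) k - LinearMap.id)

theorem mem_T {n k : ℕ} {z : X A n} : z ∈ T A n k ↔ proj k z = z := by
  rw [T, LinearMap.mem_ker, LinearMap.sub_apply, LinearMap.id_apply, sub_eq_zero]

theorem proj_mem_T {n k : ℕ} (z : X A n) : proj k z ∈ T A n k := mem_T.2 (proj_proj k z)

theorem projective_T (n k : ℕ) : Module.Projective A (T A n k) :=
  Module.Projective.of_split (T A n k).subtype ((proj k).codRestrict _ proj_mem_T)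
    (LinearMap.ext fun z => Subtype.ext (mem_T.1 z.2))

theorem bot_mem (n : ℕ) : bot A n ∈ T A n 0 := mem_T.2 (by rw [proj_zero, eps_bot, one_smul])

theorem d_mem_T {n : ℕ} (f : Fin n → A) (k : ℕ) (z : T A n (k + 1)) : d f z.1 ∈ T A n k :=
  mem_T.2 (by rw [← d_proj, mem_T.1 z.2])

theorem w_mem_T {n : ℕ} (v : Fin n → A) (k : ℕ) (z : T A n k) : w v z.1 ∈ T A n (k + 1) :=
  mem_T.2 (by rw [← w_proj, mem_T.1 z.2])

/-- The differential in degree `k`. -/
def dT {n : ℕ} (f : Fin n → A) (k : ℕ) : T A n (k + 1) →ₗ[A] T A n k :=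
  ((d f) ∘ₗ (T A n (k + 1)).subtype).codRestrict _ (d_mem_T f k)

/-- Exterior multiplication in degree `k`. -/
def wT {n : ℕ} (v : Fin n → A) (k : ℕ) : T A n k →ₗ[A] T A n (k + 1) :=
  ((w v) ∘ₗ (T A n k).subtype).codRestrict _ (w_mem_T v k)

theorem dT_dT {n : ℕ} (f : Fin n → A) (k : ℕ) (z : T A n (k + 2)) : dT f k (dT f (k + 1) z) = 0 :=
  Subtype.ext (d_d f z.1)

theorem eps_d_mem {n : ℕ} (f : Fin n → A) (z : X A n) : eps (d f z) ∈ Ideal.span (Set.range f) :=
  eps_mem _ _ (d_mem f z)

/-- The Koszul complex of an acyclic sequence, with coefficients in a free module of rank `r`. -/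
def koszul {n : ℕ} (f : Fin n → A) (hf : Acyclic f) (r : ℕ) : Aug A where
  P k := ModuleCat.of A (Fin r → T A n k)
  Q := ModuleCat.of A (Fin r → A ⧸ Ideal.span (Set.range f))
  d k := LinearMap.pi fun j => dT f k ∘ₗ LinearMap.proj j
  π := LinearMap.pi fun j => (Ideal.span (Set.range f)).mkQ ∘ₗ eps ∘ₗ (T A n 0).subtype ∘ₗ LinearMap.proj j
  d_d k z := funext fun j => dT_dT f k (z j)
  π_d z := funext fun j => (Submodule.Quotient.mk_eq_zero _).2 (eps_d_mem f (z j).1)
  exact_zero z hz := by
    have h : ∀ j, ∃ y : T A n 1, dT f 0 y = z j := fun j => by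
      have he : eps (z j).1 ∈ Ideal.span (Set.range f) := (Submodule.Quotient.mk_eq_zero _).1 (congrFun hz j)
      have hd : d f (z j).1 = 0 := by rw [← mem_T.1 (z j).2, proj_zero, map_smul, d_bot, smul_zero]
      obtain ⟨v, -, hv⟩ := hf.exists_primitive hd he
      refine ⟨⟨proj 1 v, proj_mem_T v⟩, Subtype.ext ?_⟩
      show d f (proj 1 v) = _
      rw [d_proj, hv]; exact mem_T.1 (z j).2
    choose y hy using h
    exact ⟨y, funext hy⟩
  exact_succ k z hz := by
    have h : ∀ j, ∃ y : T A n (k + 2), dT f (k + 1) y = z j := fun j => by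
      have he : eps (z j).1 ∈ Ideal.span (Set.range f) := by
        rw [← mem_T.1 (z j).2, eps_proj_succ]; exact zero_mem _
      obtain ⟨v, -, hv⟩ := hf.exists_primitive (congrArg Subtype.val (congrFun hz j)) he
      refine ⟨⟨proj (k + 2) v, proj_mem_T v⟩, Subtype.ext ?_⟩
      show d f (proj (k + 2) v) = _
      rw [d_proj, hv]; exact mem_T.1 (z j).2
    choose y hy using h
    exact ⟨y, funext hy⟩

theorem koszul_isProj {n : ℕ} (f : Fin n → A) (hf : Acyclic f) (r : ℕ) : (koszul f hf r).IsProj := fun k =>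
  haveI := projective_T (A := A) n k
  (Module.Projective.of_equiv (DFinsupp.linearEquivFunOnFintype (R := A) (M := fun _ : Fin r => T A n k)) :)

theorem koszul_surj {n : ℕ} (f : Fin n → A) (hf : Acyclic f) (r : ℕ) : Function.Surjective (koszul f hf r).π := by
  intro q
  choose a ha using fun j => Submodule.mkQ_surjective (Ideal.span (Set.range f)) (q j)
  refine ⟨fun j => a j • ⟨bot A n, bot_mem n⟩, funext fun j => ?_⟩
  show (Ideal.span (Set.range f)).mkQ (eps (a j • bot A n)) = q j
  rw [map_smul, eps_bot, smul_eq_mul, mul_one, ha]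

/-- The homotopy given by exterior multiplication. -/
def koszulHtpy {n : ℕ} (f : Fin n → A) (hf : Acyclic f) (r : ℕ) (v : Fin n → A) :
    (koszul f hf r).Htpy (∑ i, v i * f i) where
  h k := LinearMap.pi fun j => wT v k ∘ₗ LinearMap.proj j
  d_h_zero z := funext fun j => Subtype.ext (by
    have h := d_w f v (z j).1
    rw [show d f (z j).1 = 0 by rw [← mem_T.1 (z j).2, proj_zero, map_smul, d_bot, smul_zero], map_zero, add_zero] at h
    exact h)
  d_h k z := funext fun j => Subtype.ext (d_w f v (z j).1)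

/-- The exterior algebra maps to the total Koszul module. -/
def J (n : ℕ) : ExteriorAlgebra A (Fin n → A) →ₗ[A] X A n :=
  LinearMap.applyₗ (bot A n) ∘ₗ (ExteriorAlgebra.lift A ⟨W A n, fun v => LinearMap.ext (w_w v)⟩).toLinearMap

/-- The shift of the standard module. -/
def c0 (n : ℕ) : (Fin n → A) →ₗ[A] (Fin (n + 1) → A) where
  toFun v := Fin.cons 0 v
  map_add' a b := by ext i; refine Fin.cases ?_ (fun j => ?_) i <;> simp
  map_smul' r a := by ext i; refine Fin.cases ?_ (fun j => ?_) i <;> simp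

/-- Its inverse. -/
def K : ∀ n : ℕ, X A n →ₗ[A] ExteriorAlgebra A (Fin n → A)
  | 0 => (eps : X A 0 →ₗ[A] A).smulRight 1
  | n + 1 => (ExteriorAlgebra.map (c0 n)).toLinearMap ∘ₗ K n ∘ₗ p0 +
      LinearMap.mulLeft A (ExteriorAlgebra.ι A (Pi.single (0 : Fin (n + 1)) (1 : A))) ∘ₗ
        (ExteriorAlgebra.map (c0 n)).toLinearMap ∘ₗ K n ∘ₗ p1

theorem K_bot : ∀ n : ℕ, K n (bot A n) = 1
  | 0 => by simp [K, eps_bot]
  | n + 1 => by simp [K, bot, K_bot n]

theorem K_w : ∀ {n : ℕ} (v : Fin n → A) (z : X A n), K n (w v z) = ExteriorAlgebra.ι A v * K n z := by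
  intro n
  induction n with
  | zero =>
    intro v z
    rw [show ExteriorAlgebra.ι A v = 0 by rw [Subsingleton.elim v 0, map_zero], zero_mul]
    simp [w]
  | succ n ih =>
    intro v z
    let e : Fin (n + 1) → A := Pi.single 0 1
    have hv : v = v 0 • e + c0 n (Fin.tail v) := by
      ext i; refine Fin.cases ?_ (fun j => ?_) i <;> simp [e, c0, Fin.tail]
    let ι := ExteriorAlgebra.ι A (M := Fin (n + 1) → A)
    let M := ExteriorAlgebra.map (c0 (A := A) n)
    have hι : ι v = v 0 • ι e + ι (c0 n (Fin.tail v)) := by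
      conv_lhs => rw [hv]
      rw [map_add, map_smul]
    have hM : ∀ x, M (ExteriorAlgebra.ι A (Fin.tail v) * x) = ι (c0 n (Fin.tail v)) * M x := fun x => by
      rw [map_mul, ExteriorAlgebra.map_apply_ι]
    have hsq : ι e * ι e = 0 := ExteriorAlgebra.ι_sq_zero e
    have hanti : ι (c0 n (Fin.tail v)) * ι e = -(ι e * ι (c0 n (Fin.tail v))) :=
      eq_neg_of_add_eq_zero_left (ExteriorAlgebra.ι_add_mul_swap _ _)
    show M (K n (p0 (w v z))) + ι e * M (K n (p1 (w v z))) = ι v * (M (K n (p0 z)) + ι e * M (K n (p1 z)))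
    rw [p0_w, p1_w, map_sub, map_smul, map_sub, map_smul, ih, ih, hM, hM, hι, mul_add, add_mul, add_mul,
      mul_sub, mul_smul_comm, smul_mul_assoc, smul_mul_assoc, ← mul_assoc (ι e) (ι e), hsq, zero_mul, smul_zero,
      ← mul_assoc (ι (c0 n (Fin.tail v))) (ι e), hanti, neg_mul, mul_assoc]
    abel

theorem J_ι_mul {n : ℕ} (v : Fin n → A) (x : ExteriorAlgebra A (Fin n → A)) :
    J n (ExteriorAlgebra.ι A v * x) = w v (J n x) := by
  simp only [J, LinearMap.comp_apply, AlgHom.toLinearMap_apply, map_mul, ExteriorAlgebra.lift_ι_apply]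
  rfl

theorem J_one (n : ℕ) : J n (1 : ExteriorAlgebra A (Fin n → A)) = bot A n := by
  simp [J]

theorem K_J {n : ℕ} (x : ExteriorAlgebra A (Fin n → A)) : K n (J n x) = x := by
  induction x using CliffordAlgebra.left_induction with
  | algebraMap r => rw [Algebra.algebraMap_eq_smul_one, map_smul, map_smul, J_one, K_bot]
  | add a b ha hb => rw [map_add, map_add, ha, hb]
  | ι_mul a v ha =>
    change K n (J n (ExteriorAlgebra.ι A v * a)) = ExteriorAlgebra.ι A v * a
    rw [J_ι_mul, K_w, ha]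

theorem J_map_c0 {n : ℕ} (x : ExteriorAlgebra A (Fin n → A)) :
    J (n + 1) (ExteriorAlgebra.map (c0 n) x) = mk (J n x, 0) := by
  induction x using CliffordAlgebra.left_induction with
  | algebraMap r =>
    rw [Algebra.algebraMap_eq_smul_one, map_smul, map_one, map_smul, map_smul, J_one, J_one]
    apply ext' <;> simp [bot]
  | add a b ha hb => rw [map_add, map_add, ha, hb, map_add, ← map_add]; congr 1; simp
  | ι_mul a v ha =>
    change J (n + 1) (ExteriorAlgebra.map (c0 n) (ExteriorAlgebra.ι A v * a)) =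
      mk (J n (ExteriorAlgebra.ι A v * a), 0)
    rw [map_mul, ExteriorAlgebra.map_apply_ι, J_ι_mul, J_ι_mul, ha]
    apply ext' <;> simp [c0, Fin.tail]

theorem J_K : ∀ {n : ℕ} (z : X A n), J n (K n z) = z := by
  intro n
  induction n with
  | zero =>
    intro z
    ext s
    simp [K, J_one, bot, eps, Subsingleton.elim s Fin.elim0]
  | succ n ih =>
    intro z
    show J (n + 1) (ExteriorAlgebra.map (c0 n) (K n (p0 z)) + ExteriorAlgebra.ι A _ * ExteriorAlgebra.map (c0 n) (K n (p1 z))) = z
    rw [map_add, J_ι_mul, J_map_c0, J_map_c0, ih, ih]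
    have h0 : Fin.tail (α := fun _ => A) (Pi.single (0 : Fin (n + 1)) (1 : A)) = (0 : Fin n → A) := by
      funext i; simp [Fin.tail]
    apply ext' <;> simp [h0, w_zero]

theorem map_mem_pow {M N : Type u} [AddCommGroup M] [Module A M] [AddCommGroup N] [Module A N] (g : M →ₗ[A] N)
    {k : ℕ} {x : ExteriorAlgebra A M} (hx : x ∈ ⋀[A]^k M) : ExteriorAlgebra.map g x ∈ ⋀[A]^k N := by
  rw [← exteriorPower.ιMulti_span_fixedDegree] at hx
  induction hx using Submodule.span_induction with
  | zero => rw [map_zero]; exact zero_mem _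
  | add a b _ _ ha hb => rw [map_add]; exact add_mem ha hb
  | smul r a _ ha => rw [map_smul]; exact Submodule.smul_mem _ r ha
  | mem a ha =>
    obtain ⟨e, rfl⟩ := ha
    rw [ExteriorAlgebra.map_apply_ιMulti]
    exact ExteriorAlgebra.ιMulti_range A k ⟨_, rfl⟩

theorem ι_mul_mem_pow {M : Type u} [AddCommGroup M] [Module A M] (v : M) {k : ℕ} {x : ExteriorAlgebra A M}
    (hx : x ∈ ⋀[A]^k M) : ExteriorAlgebra.ι A v * x ∈ ⋀[A]^(k + 1) M := by
  rw [← exteriorPower.ιMulti_span_fixedDegree] at hx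
  induction hx using Submodule.span_induction with
  | zero => rw [mul_zero]; exact zero_mem _
  | add a b _ _ ha hb => rw [mul_add]; exact add_mem ha hb
  | smul r a _ ha => rw [mul_smul_comm]; exact Submodule.smul_mem _ r ha
  | mem a ha =>
    obtain ⟨e, rfl⟩ := ha
    have : ExteriorAlgebra.ιMulti A (k + 1) (Fin.cons v e) = ExteriorAlgebra.ι A v * ExteriorAlgebra.ιMulti A k e := by
      rw [ExteriorAlgebra.ιMulti_succ_apply]; simp [Matrix.vecTail, Function.comp_def]
    rw [← this]
    exact ExteriorAlgebra.ιMulti_range A (k + 1) ⟨_, rfl⟩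

theorem K_mem : ∀ {n : ℕ} (k : ℕ) (z : X A n), K n (proj k z) ∈ ⋀[A]^k (Fin n → A) := by
  intro n
  induction n with
  | zero =>
    rintro (_ | k) z
    · simp only [proj, LinearMap.id_apply, K, LinearMap.smulRight_apply]
      exact Submodule.smul_mem _ _ (SetLike.one_mem_graded _)
    · simp [proj]
  | succ n ih =>
    rintro (_ | k) z
    · simp only [K, LinearMap.add_apply, LinearMap.comp_apply, p0_proj, p1_proj_zero, map_zero, add_zero]
      exact map_mem_pow _ (ih 0 _)
    · simp only [K, LinearMap.add_apply, LinearMap.comp_apply, p0_proj, p1_proj_succ, LinearMap.mulLeft_apply]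
      exact add_mem (map_mem_pow _ (ih _ _)) (ι_mul_mem_pow _ (map_mem_pow _ (ih _ _)))

end Groth.Agent.TorWedge
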