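import Mathlib.Algebra.Category.ModuleCat.Basic
import Mathlib.Algebra.Module.Projective
import Mathlib.RingTheory.Ideal.Operations
import Mathlib.RingTheory.Ideal.Maps

/-!
# Lifting into augmented acyclic complexes, and the operators of an ideal on `Tor(A/I, -)`

An element `a` of `I` kills `Q`, hence is null-homotopic on a resolution of `Q`; modulo `I` the homotopy is a
well-defined operator of degree one on the homology, linear in `a`, zero on `I²` and of square zero.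
-/

set_option autoImplicit false

universe u

noncomputable section

namespace Groth.Agent.TorWedge

variable {A : Type u} [CommRing A]

/-- An augmented acyclic complex of modules. -/
structure Aug (A : Type u) [CommRing A] where
  /-- the terms -/
  P : ℕ → ModuleCat.{u} A
  /-- the augmentation -/
  Q : ModuleCat.{u} A
  /-- the differential -/
  d : ∀ k, P (k + 1) →ₗ[A] P k
  /-- the augmentation map -/
  π : P 0 →ₗ[A] Q
  d_d : ∀ k x, d k (d (k + 1) x) = 0
  π_d : ∀ x, π (d 0 x) = 0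
  exact_zero : ∀ x, π x = 0 → ∃ y, d 0 y = x
  exact_succ : ∀ k x, d k x = 0 → ∃ y, d (k + 1) y = x

namespace Aug

/-- All terms are projective. -/
def IsProj (C : Aug A) : Prop := ∀ k, Module.Projective A (C.P k)

/-- The shift by one, augmented into the term of degree zero. -/
def shift (C : Aug A) : Aug A where
  P k := C.P (k + 1)
  Q := C.P 0
  d k := C.d (k + 1)
  π := C.d 0
  d_d k := C.d_d (k + 1)
  π_d := C.d_d 0
  exact_zero := C.exact_succ 0
  exact_succ k := C.exact_succ (k + 1)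

variable {C : Aug A}

theorem exists_lift_hom {M : ModuleCat.{u} A} (hM : Module.Projective A M) {N N' : Type u} [AddCommGroup N] [Module A N]
    [AddCommGroup N'] [Module A N'] (f : N' →ₗ[A] N) (g : M →ₗ[A] N) (h : ∀ x, ∃ y, f y = g x) :
    ∃ s : M →ₗ[A] N', ∀ x, f (s x) = g x := by
  obtain ⟨s, hs⟩ := Module.projective_lifting_property f.rangeRestrict
    (g.codRestrict (LinearMap.range f) fun x => LinearMap.mem_range.2 (h x)) f.surjective_rangeRestrict
  exact ⟨s, fun x => congrArg Subtype.val (LinearMap.congr_fun hs x)⟩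

/-- Maps commuting with the differentials up to a sign, zero after augmentation, are null-homotopic. -/
theorem exists_null (hC : C.IsProj) (T : Aug A) (c : A) (v : ∀ k, C.P k →ₗ[A] T.P k)
    (h0 : ∀ x, T.π (v 0 x) = 0) (h : ∀ k x, T.d k (v (k + 1) x) = c • v k (C.d k x)) :
    ∃ s : ∀ k, C.P k →ₗ[A] T.P (k + 1), (∀ x, T.d 0 (s 0 x) = v 0 x) ∧
      ∀ k x, T.d (k + 1) (s (k + 1) x) + c • s k (C.d k x) = v (k + 1) x := by
  classical
  obtain ⟨s₀, hs₀⟩ := exists_lift_hom (hC 0) (T.d 0) (v 0) fun x => T.exact_zero _ (h0 x)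
  -- the property allowing the next step
  let Good : ∀ k, (C.P k →ₗ[A] T.P (k + 1)) → Prop := fun k s =>
    ∀ x, T.d k (v (k + 1) x - c • s (C.d k x)) = 0
  have step : ∀ k (s : {s // Good k s}), ∃ s' : {s // Good (k + 1) s},
      ∀ x, T.d (k + 1) (s'.1 x) + c • s.1 (C.d k x) = v (k + 1) x := by
    intro k s
    obtain ⟨s', hs'⟩ := exists_lift_hom (hC (k + 1)) (T.d (k + 1)) (v (k + 1) - c • s.1 ∘ₗ C.d k)
      fun x => T.exact_succ _ _ (s.2 x)
    simp only [LinearMap.sub_apply, LinearMap.smul_apply, LinearMap.comp_apply] at hs'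
    refine ⟨⟨s', fun x => ?_⟩, fun x => by rw [hs']; exact sub_add_cancel _ _⟩
    rw [map_sub, map_smul, h (k + 1), hs', C.d_d, map_zero, smul_zero, sub_zero, sub_self]
  have g₀ : Good 0 s₀ := fun x => by rw [map_sub, map_smul, hs₀, h 0, sub_self]
  choose next hnext using step
  let s : ∀ k, {s // Good k s} := fun k => Nat.rec (⟨s₀, g₀⟩ : {s // Good 0 s}) next k
  exact ⟨fun k => (s k).1, hs₀, fun k => hnext k (s k)⟩

/-- Lifting a map of augmentations. -/
theorem exists_map (hC : C.IsProj) (T : Aug A) (g : C.Q →ₗ[A] T.Q) (hT : ∀ x : C.P 0, ∃ y, T.π y = g (C.π x)) :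
    ∃ φ : ∀ k, C.P k →ₗ[A] T.P k, (∀ x, T.π (φ 0 x) = g (C.π x)) ∧
      ∀ k x, T.d k (φ (k + 1) x) = φ k (C.d k x) := by
  classical
  obtain ⟨φ₀, hφ₀⟩ := exists_lift_hom (hC 0) T.π (g ∘ₗ C.π) hT
  simp only [LinearMap.comp_apply] at hφ₀
  let Good : ∀ k, (C.P k →ₗ[A] T.P k) → Prop := fun k φ =>
    ∀ x, ∃ y, T.d k y = φ (C.d k x)
  have step : ∀ k (φ : {φ // Good k φ}), ∃ φ' : {φ // Good (k + 1) φ},
      ∀ x, T.d k (φ'.1 x) = φ.1 (C.d k x) := by
    intro k φ
    obtain ⟨φ', hφ'⟩ := exists_lift_hom (hC (k + 1)) (T.d k) (φ.1 ∘ₗ C.d k) φ.2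
    simp only [LinearMap.comp_apply] at hφ'
    refine ⟨⟨φ', fun x => T.exact_succ k _ ?_⟩, hφ'⟩
    rw [hφ', C.d_d, map_zero]
  have g₀ : Good 0 φ₀ := fun x => T.exact_zero _ (by rw [hφ₀, C.π_d, map_zero])
  choose next hnext using step
  let φ : ∀ k, {φ // Good k φ} := fun k => Nat.rec (⟨φ₀, g₀⟩ : {φ // Good 0 φ}) next k
  exact ⟨fun k => (φ k).1, hφ₀, fun k => hnext k (φ k)⟩

variable (I : Ideal A)

/-- The cycles modulo the ideal. -/
def Z (C : Aug A) : ∀ k, Submodule A (C.P k)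
  | 0 => ⊤
  | k + 1 => (I • (⊤ : Submodule A (C.P k))).comap (C.d k)

/-- The boundaries modulo the ideal. -/
def B (C : Aug A) (k : ℕ) : Submodule A (C.P k) :=
  LinearMap.range (C.d k) ⊔ I • (⊤ : Submodule A (C.P k))

theorem map_smul_top {M N : Type u} [AddCommGroup M] [Module A M] [AddCommGroup N] [Module A N] (f : M →ₗ[A] N)
    {x : M} (hx : x ∈ I • (⊤ : Submodule A M)) : f x ∈ I • (⊤ : Submodule A N) := by
  have := Submodule.mem_map_of_mem (f := f) hx
  rw [Submodule.map_smul''] at this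
  exact Submodule.smul_mono le_rfl le_top this

theorem mem_Z_succ {k : ℕ} {x : C.P (k + 1)} : x ∈ C.Z I (k + 1) ↔ C.d k x ∈ I • (⊤ : Submodule A (C.P k)) :=
  Iff.rfl

theorem B_le_Z : ∀ k, C.B I k ≤ C.Z I k
  | 0 => le_top
  | k + 1 => sup_le (by rintro _ ⟨y, rfl⟩; rw [mem_Z_succ, C.d_d]; exact zero_mem _)
      fun x hx => map_smul_top I (C.d k) hx

theorem d_mem_B {k : ℕ} (y : C.P (k + 1)) : C.d k y ∈ C.B I k := Submodule.mem_sup_left ⟨y, rfl⟩

theorem smul_top_le_B (k : ℕ) : I • (⊤ : Submodule A (C.P k)) ≤ C.B I k := le_sup_right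

/-- A map commuting up to sign and zero after augmentation sends cycles to boundaries. -/
theorem mem_B_of_null (hC : C.IsProj) (T : Aug A) (c : A) (v : ∀ k, C.P k →ₗ[A] T.P k)
    (h0 : ∀ x, T.π (v 0 x) = 0) (h : ∀ k x, T.d k (v (k + 1) x) = c • v k (C.d k x)) :
    ∀ k x, x ∈ C.Z I k → v k x ∈ T.B I k := by
  obtain ⟨s, hs₀, hs⟩ := exists_null hC T c v h0 h
  rintro (_ | k) x hx
  · rw [← hs₀]; exact T.d_mem_B I _
  · rw [← hs]
    exact add_mem (T.d_mem_B I _) (T.smul_top_le_B I _ (Submodule.smul_mem _ _ (map_smul_top I (s k) hx)))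

/-- A null homotopy of a scalar. -/
structure Htpy (C : Aug A) (a : A) where
  /-- the components -/
  h : ∀ k, C.P k →ₗ[A] C.P (k + 1)
  d_h_zero : ∀ x, C.d 0 (h 0 x) = a • x
  d_h : ∀ k x, C.d (k + 1) (h (k + 1) x) + h k (C.d k x) = a • x

theorem nonempty_htpy (hC : C.IsProj) {a : A} (ha : ∀ q : C.Q, a • q = 0) : Nonempty (C.Htpy a) := by
  obtain ⟨s, hs₀, hs⟩ := exists_null hC C 1 (fun k => a • LinearMap.id)
    (fun x => by simp [ha]) (fun k x => by simp)
  exact ⟨⟨s, fun x => by simpa using hs₀ x, fun k x => by simpa using hs k x⟩⟩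

variable {a b : A}

theorem Htpy.mem_Z (H : C.Htpy a) (ha : a ∈ I) : ∀ k x, x ∈ C.Z I k → H.h k x ∈ C.Z I (k + 1) := by
  rintro (_ | k) x hx
  · rw [mem_Z_succ, H.d_h_zero]; exact Submodule.smul_mem_smul ha trivial
  · rw [mem_Z_succ, eq_sub_of_add_eq (H.d_h k x)]
    exact sub_mem (Submodule.smul_mem_smul ha trivial) (map_smul_top I (H.h k) hx)

theorem Htpy.mem_B (H : C.Htpy a) (ha : a ∈ I) : ∀ k x, x ∈ C.B I k → H.h k x ∈ C.B I (k + 1) := by
  intro k x hx
  obtain ⟨_, ⟨y, rfl⟩, w, hw, rfl⟩ := Submodule.mem_sup.1 hx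
  rw [map_add, eq_sub_of_add_eq' (H.d_h k y)]
  exact add_mem (sub_mem (C.smul_top_le_B I _ (Submodule.smul_mem_smul ha trivial)) (C.d_mem_B I _))
    (C.smul_top_le_B I _ (map_smul_top I (H.h k) hw))

/-- Homotopies of the same scalar agree on homology, compatibly with chain maps. -/
theorem Htpy.sub_mem_B (hC : C.IsProj) {T : Aug A} (φ : ∀ k, C.P k →ₗ[A] T.P k)
    (hφ : ∀ k x, T.d k (φ (k + 1) x) = φ k (C.d k x)) (H : C.Htpy a) (H' : T.Htpy a) :
    ∀ k x, x ∈ C.Z I k → φ (k + 1) (H.h k x) - H'.h k (φ k x) ∈ T.B I (k + 1) := by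
  intro k x hx
  refine mem_B_of_null I hC T.shift (-1) (fun k => φ (k + 1) ∘ₗ H.h k - H'.h k ∘ₗ φ k)
    (fun x => ?_) (fun k x => ?_) k x hx
  · show T.d 0 (φ 1 (H.h 0 x) - H'.h 0 (φ 0 x)) = 0
    rw [map_sub, hφ, H.d_h_zero, H'.d_h_zero, map_smul, sub_self]
  · show T.d (k + 1) (φ (k + 2) (H.h (k + 1) x) - H'.h (k + 1) (φ (k + 1) x)) =
      (-1 : A) • (φ (k + 1) (H.h k (C.d k x)) - H'.h k (φ k (C.d k x)))
    rw [map_sub, hφ, eq_sub_of_add_eq (H.d_h k x), eq_sub_of_add_eq (H'.d_h k _), hφ, map_sub, map_smul,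
      neg_smul, one_smul]
    abel

theorem Htpy.sub_mem_B_self (hC : C.IsProj) (H H' : C.Htpy a) :
    ∀ k x, x ∈ C.Z I k → H.h k x - H'.h k x ∈ C.B I (k + 1) :=
  Htpy.sub_mem_B I hC (fun _ => LinearMap.id) (fun _ _ => rfl) H H'

/-- The square of the operator is zero on homology. -/
theorem Htpy.sq_mem_B (hC : C.IsProj) (H : C.Htpy a) :
    ∀ k x, x ∈ C.Z I k → H.h (k + 1) (H.h k x) ∈ C.B I (k + 2) := by
  refine mem_B_of_null I hC C.shift.shift 1 (fun k => H.h (k + 1) ∘ₗ H.h k) (fun x => ?_) (fun k x => ?_)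
  · show C.d 1 (H.h 1 (H.h 0 x)) = 0
    rw [eq_sub_of_add_eq (H.d_h 0 _), H.d_h_zero, map_smul, sub_self]
  · show C.d (k + 2) (H.h (k + 2) (H.h (k + 1) x)) = (1 : A) • H.h (k + 1) (H.h k (C.d k x))
    rw [eq_sub_of_add_eq (H.d_h (k + 1) _), eq_sub_of_add_eq (H.d_h k x), map_sub, map_smul, one_smul, sub_sub_cancel]

/-- The sum of two homotopies. -/
def Htpy.add (H : C.Htpy a) (H' : C.Htpy b) : C.Htpy (a + b) where
  h k := H.h k + H'.h k
  d_h_zero x := by simp [H.d_h_zero, H'.d_h_zero, add_smul]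
  d_h k x := by
    simp only [LinearMap.add_apply, map_add]
    rw [add_smul, ← H.d_h k x, ← H'.d_h k x]
    abel

/-- Multiples of a homotopy. -/
def Htpy.smul (c : A) (H : C.Htpy a) : C.Htpy (c * a) where
  h k := c • H.h k
  d_h_zero x := by simp [H.d_h_zero, mul_smul]
  d_h k x := by
    simp only [LinearMap.smul_apply, map_smul]
    rw [mul_smul, ← H.d_h k x, smul_add]

end Aug

end Groth.Agent.TorWedge
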