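import Groth.Agent.TorWedge.Koszul
import Mathlib.LinearAlgebra.Multilinear.Curry

/-!
# `Tor_k(A/I, Q) = ⋀^k (I/I²) ⊗ Q` for an ideal generated by a Koszul-regular sequence
-/

set_option autoImplicit false

universe u

noncomputable section

namespace Groth.Agent.TorWedge

variable {A : Type u} [CommRing A]

namespace Aug

variable {C T : Aug A} (I : Ideal A)

/-- The ideal kills the augmentation. -/
def Kills (C : Aug A) : Prop := ∀ a ∈ I, ∀ q : C.Q, a • q = 0

/-- The homology of `C ⊗ A/I`. -/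
abbrev H (C : Aug A) (k : ℕ) : Type u := C.Z I k ⧸ (C.B I k).comap (C.Z I k).subtype

/-- The class of a cycle. -/
def cls (C : Aug A) (k : ℕ) : C.Z I k →ₗ[A] C.H I k := ((C.B I k).comap (C.Z I k).subtype).mkQ

theorem cls_surjective (C : Aug A) (k : ℕ) : Function.Surjective (C.cls I k) := Submodule.mkQ_surjective _

theorem cls_eq_zero {k : ℕ} {z : C.Z I k} : C.cls I k z = 0 ↔ z.1 ∈ C.B I k := Submodule.Quotient.mk_eq_zero _

theorem cls_eq {k : ℕ} {z z' : C.Z I k} : C.cls I k z = C.cls I k z' ↔ z.1 - z'.1 ∈ C.B I k :=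
  Submodule.Quotient.eq _

theorem smul_H_eq_zero {k : ℕ} {a : A} (ha : a ∈ I) (h : C.H I k) : a • h = 0 := by
  obtain ⟨z, rfl⟩ := C.cls_surjective I k h
  rw [← map_smul, cls_eq_zero]
  exact C.smul_top_le_B I k (Submodule.smul_mem_smul ha trivial)

/-- The operator of a homotopy. -/
def Htpy.op {a : A} (h : C.Htpy a) (ha : a ∈ I) (k : ℕ) : C.H I k →ₗ[A] C.H I (k + 1) :=
  Submodule.mapQ _ _ ((h.h k).restrict fun x hx => h.mem_Z I ha k x hx) fun x hx => h.mem_B I ha k x.1 hx

theorem Htpy.op_cls {a : A} (h : C.Htpy a) (ha : a ∈ I) {k : ℕ} (z : C.Z I k) :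
    h.op I ha k (C.cls I k z) = C.cls I (k + 1) ⟨h.h k z.1, h.mem_Z I ha k z.1 z.2⟩ := rfl

variable {I}

/-- The operator of an element of the ideal. -/
def opA (hC : C.IsProj) (hI : C.Kills I) (a : I) (k : ℕ) : C.H I k →ₗ[A] C.H I (k + 1) :=
  (nonempty_htpy hC (hI a.1 a.2)).some.op I a.2 k

theorem opA_cls (hC : C.IsProj) (hI : C.Kills I) (a : I) (h : C.Htpy a.1) {k : ℕ} (z : C.Z I k) :
    opA hC hI a k (C.cls I k z) = C.cls I (k + 1) ⟨h.h k z.1, h.mem_Z I a.2 k z.1 z.2⟩ := by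
  rw [opA, Htpy.op_cls, cls_eq]
  exact Htpy.sub_mem_B_self I hC _ h k z.1 z.2

theorem opA_sq (hC : C.IsProj) (hI : C.Kills I) (a : I) (k : ℕ) (x : C.H I k) :
    opA hC hI a (k + 1) (opA hC hI a k x) = 0 := by
  obtain ⟨z, rfl⟩ := C.cls_surjective I k x
  let h := (nonempty_htpy hC (hI a.1 a.2)).some
  rw [opA_cls hC hI a h, opA_cls hC hI a h, cls_eq_zero]
  exact Htpy.sq_mem_B I hC h k z.1 z.2

/-- The operators, linear in the element. -/
def opL (hC : C.IsProj) (hI : C.Kills I) (k : ℕ) : I →ₗ[A] C.H I k →ₗ[A] C.H I (k + 1) where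
  toFun a := opA hC hI a k
  map_add' a b := LinearMap.ext fun x => by
    obtain ⟨z, rfl⟩ := C.cls_surjective I k x
    let h := (nonempty_htpy hC (hI a.1 a.2)).some
    let h' := (nonempty_htpy hC (hI b.1 b.2)).some
    rw [LinearMap.add_apply, opA_cls hC hI (a + b) (h.add h'), opA_cls hC hI a h, opA_cls hC hI b h', ← map_add]
    rfl
  map_smul' c a := LinearMap.ext fun x => by
    obtain ⟨z, rfl⟩ := C.cls_surjective I k x
    let h := (nonempty_htpy hC (hI a.1 a.2)).some
    rw [RingHom.id_apply, LinearMap.smul_apply, opA_cls hC hI (c • a) (h.smul c), opA_cls hC hI a h, ← map_smul]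
    rfl

theorem opL_sq_zero (hC : C.IsProj) (hI : C.Kills I) (k : ℕ) (a : I) (b : A) (hb : b ∈ I) :
    opL hC hI k (b • a) = 0 :=
  LinearMap.ext fun x => by rw [map_smul, LinearMap.smul_apply, smul_H_eq_zero I hb, LinearMap.zero_apply]

theorem opL_comm (hC : C.IsProj) (hI : C.Kills I) (k : ℕ) (a b : I) (x : C.H I k) :
    opL hC hI (k + 1) a (opL hC hI k b x) = - opL hC hI (k + 1) b (opL hC hI k a x) := by
  have h := opA_sq hC hI (a + b) k x
  change opL hC hI (k + 1) (a + b) (opL hC hI k (a + b) x) = 0 at h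
  simp only [map_add, LinearMap.add_apply] at h
  rw [show opL hC hI (k + 1) a (opL hC hI k a x) = 0 from opA_sq hC hI a k x,
    show opL hC hI (k + 1) b (opL hC hI k b x) = 0 from opA_sq hC hI b k x, zero_add, add_zero] at h
  exact eq_neg_of_add_eq_zero_right h

/-- The composite of the operators of a family. -/
def omegaM (hC : C.IsProj) (hI : C.Kills I) : ∀ k, MultilinearMap A (fun _ : Fin k => I) (C.H I 0 →ₗ[A] C.H I k)
  | 0 => MultilinearMap.constOfIsEmpty A _ LinearMap.id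
  | k + 1 => LinearMap.uncurryLeft
      { toFun := fun a => ((LinearMap.llcomp A _ _ _) (opL hC hI k a)).compMultilinearMap (omegaM hC hI k)
        map_add' := fun a b => by
          ext v x
          simp
        map_smul' := fun c a => by
          ext v x
          simp }

theorem omegaM_succ (hC : C.IsProj) (hI : C.Kills I) (k : ℕ) (v : Fin (k + 1) → I) (x : C.H I 0) :
    omegaM hC hI (k + 1) v x = opL hC hI k (v 0) (omegaM hC hI k (Fin.tail v) x) := rfl

theorem op_omegaM_eq_zero (hC : C.IsProj) (hI : C.Kills I) (x : C.H I 0) : ∀ (k : ℕ) (v : Fin k → I) (i : Fin k),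
    opL hC hI k (v i) (omegaM hC hI k v x) = 0
  | 0, _, i => i.elim0
  | k + 1, v, i => by
    rw [omegaM_succ]
    refine Fin.cases ?_ (fun j => ?_) i
    · exact opA_sq hC hI (v 0) k _
    · rw [opL_comm, show v j.succ = Fin.tail v j from rfl, op_omegaM_eq_zero hC hI x k (Fin.tail v) j, map_zero,
        neg_zero]

theorem omegaM_eq_zero (hC : C.IsProj) (hI : C.Kills I) (x : C.H I 0) : ∀ (k : ℕ) (v : Fin k → I) (i j : Fin k),
    v i = v j → i ≠ j → omegaM hC hI k v x = 0
  | 0, _, i, _, _, _ => i.elim0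
  | k + 1, v, i, j, hv, hij => by
    have key : ∀ l : Fin k, v 0 = v l.succ → omegaM hC hI (k + 1) v x = 0 := fun l hl => by
      rw [omegaM_succ, hl]
      exact op_omegaM_eq_zero hC hI x k (Fin.tail v) l
    rcases Fin.eq_zero_or_eq_succ i with rfl | ⟨i, rfl⟩
    · rcases Fin.eq_zero_or_eq_succ j with rfl | ⟨j, rfl⟩
      · exact absurd rfl hij
      · exact key j hv
    · rcases Fin.eq_zero_or_eq_succ j with rfl | ⟨j, rfl⟩
      · exact key i hv.symm
      · rw [omegaM_succ, omegaM_eq_zero hC hI x k (Fin.tail v) i j hv (fun h => hij (by rw [h])), map_zero]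

/-- The alternating map. -/
def omegaA (hC : C.IsProj) (hI : C.Kills I) (k : ℕ) : I [⋀^Fin k]→ₗ[A] (C.H I 0 →ₗ[A] C.H I k) where
  toMultilinearMap := omegaM hC hI k
  map_eq_zero_of_eq' v i j hv hij := LinearMap.ext fun x => omegaM_eq_zero hC hI x k v i j hv hij

/-- The map from the exterior power. -/
def wedge (hC : C.IsProj) (hI : C.Kills I) (k : ℕ) : (⋀[A]^k I : Submodule A _) →ₗ[A] C.H I 0 →ₗ[A] C.H I k :=
  exteriorPower.alternatingMapLinearEquiv (omegaA hC hI k)

theorem wedge_ιMulti (hC : C.IsProj) (hI : C.Kills I) (k : ℕ) (v : Fin k → I) (x : C.H I 0) :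
    wedge hC hI k (exteriorPower.ιMulti A k v) x = omegaM hC hI k v x := by
  rw [wedge, exteriorPower.alternatingMapLinearEquiv_apply_ιMulti]
  rfl

/-- The degree zero homology is the augmentation. -/
def toQ (hI : C.Kills I) : C.H I 0 →ₗ[A] C.Q :=
  Submodule.liftQ _ (C.π ∘ₗ (C.Z I 0).subtype) fun x hx => by
    obtain ⟨_, ⟨y, rfl⟩, w, hw, e⟩ := Submodule.mem_sup.1 (show x.1 ∈ C.B I 0 from hx)
    show C.π x.1 = 0
    rw [← e, map_add, C.π_d, zero_add]
    have := map_smul_top I C.π hw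
    refine Submodule.smul_induction_on this (fun a ha q _ => hI a ha q) fun a b ha hb => by rw [ha, hb, add_zero]

theorem toQ_cls (hI : C.Kills I) (z : C.Z I 0) : toQ hI (C.cls I 0 z) = C.π z.1 := rfl

theorem toQ_injective (hI : C.Kills I) : Function.Injective (toQ (C := C) hI) := by
  rw [injective_iff_map_eq_zero]
  intro x hx
  obtain ⟨z, rfl⟩ := C.cls_surjective I 0 x
  obtain ⟨y, hy⟩ := C.exact_zero z.1 hx
  rw [cls_eq_zero, ← hy]
  exact C.d_mem_B I y

/-- A chain map. -/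
structure Hom (C T : Aug A) where
  /-- the components -/
  φ : ∀ k, C.P k →ₗ[A] T.P k
  comm : ∀ k x, T.d k (φ (k + 1) x) = φ k (C.d k x)

variable (I)

theorem Hom.mem_Z (F : Hom C T) : ∀ k x, x ∈ C.Z I k → F.φ k x ∈ T.Z I k := by
  rintro (_ | k) x hx
  · trivial
  · rw [mem_Z_succ, F.comm]; exact map_smul_top I (F.φ k) hx

theorem Hom.mem_B (F : Hom C T) (k : ℕ) (x : C.P k) (hx : x ∈ C.B I k) : F.φ k x ∈ T.B I k := by
  obtain ⟨_, ⟨y, rfl⟩, w, hw, rfl⟩ := Submodule.mem_sup.1 hx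
  rw [map_add, ← F.comm]
  exact add_mem (T.d_mem_B I _) (T.smul_top_le_B I _ (map_smul_top I (F.φ k) hw))

/-- The map on homology. -/
def Hom.map (F : Hom C T) (k : ℕ) : C.H I k →ₗ[A] T.H I k :=
  Submodule.mapQ _ _ ((F.φ k).restrict fun x hx => F.mem_Z I k x hx) fun x hx => F.mem_B I k x.1 hx

theorem Hom.map_cls (F : Hom C T) {k : ℕ} (z : C.Z I k) :
    F.map I k (C.cls I k z) = T.cls I k ⟨F.φ k z.1, F.mem_Z I k z.1 z.2⟩ := rfl

variable {I}

theorem Hom.map_opL (F : Hom C T) (hC : C.IsProj) (hI : C.Kills I) (hT : T.IsProj) (hI' : T.Kills I) (a : I) (k : ℕ)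
    (x : C.H I k) : F.map I (k + 1) (opL hC hI k a x) = opL hT hI' k a (F.map I k x) := by
  obtain ⟨z, rfl⟩ := C.cls_surjective I k x
  let h := (nonempty_htpy hC (hI a.1 a.2)).some
  let h' := (nonempty_htpy hT (hI' a.1 a.2)).some
  show F.map I (k + 1) (opA hC hI a k (C.cls I k z)) = opA hT hI' a k (F.map I k (C.cls I k z))
  rw [opA_cls hC hI a h, Hom.map_cls, Hom.map_cls, opA_cls hT hI' a h', cls_eq]
  exact Htpy.sub_mem_B I hC F.φ F.comm h h' k z.1 z.2

theorem Hom.map_omegaM (F : Hom C T) (hC : C.IsProj) (hI : C.Kills I) (hT : T.IsProj) (hI' : T.Kills I) :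
    ∀ (k : ℕ) (v : Fin k → I) (x : C.H I 0), F.map I k (omegaM hC hI k v x) = omegaM hT hI' k v (F.map I 0 x)
  | 0, _, _ => rfl
  | k + 1, v, x => by rw [omegaM_succ, omegaM_succ, F.map_opL hC hI hT hI', map_omegaM F hC hI hT hI' k]

theorem Hom.map_wedge (F : Hom C T) (hC : C.IsProj) (hI : C.Kills I) (hT : T.IsProj) (hI' : T.Kills I) (k : ℕ)
    (m : (⋀[A]^k I : Submodule A _)) (x : C.H I 0) :
    F.map I k (wedge hC hI k m x) = wedge hT hI' k m (F.map I 0 x) := by
  refine LinearMap.congr_fun (f := F.map I k ∘ₗ LinearMap.applyₗ x ∘ₗ wedge hC hI k)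
    (g := LinearMap.applyₗ (F.map I 0 x) ∘ₗ wedge hT hI' k) ?_ m
  ext v
  simp only [LinearMap.compAlternatingMap_apply, LinearMap.comp_apply, LinearMap.applyₗ_apply_apply, wedge_ιMulti]
  exact F.map_omegaM hC hI hT hI' k v x

/-- Homotopy inverse chain maps. -/
theorem Hom.map_map (F : Hom C T) (G : Hom T C) (hC : C.IsProj) (h0 : ∀ x, C.π (G.φ 0 (F.φ 0 x)) = C.π x) (k : ℕ)
    (x : C.H I k) : G.map I k (F.map I k x) = x := by
  obtain ⟨z, rfl⟩ := C.cls_surjective I k x
  rw [Hom.map_cls, Hom.map_cls, cls_eq]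
  exact mem_B_of_null I hC C 1 (fun k => G.φ k ∘ₗ F.φ k - LinearMap.id) (fun x => by simp [h0])
    (fun k x => by simp [G.comm, F.comm]) k z.1 z.2

end Aug

section Koszul

open Wiebe

variable {n : ℕ} {f : Fin n → A} (hf : Acyclic f) (r : ℕ)

local notation "I₀" => Ideal.span (Set.range f)

theorem mem_smul_top_T {k : ℕ} {I : Ideal A} (z : T A n k) (h : ∀ s, z.1 s ∈ I) : z ∈ I • (⊤ : Submodule A (T A n k)) := by
  classical
  let π : X A n →ₗ[A] T A n k := (proj k).codRestrict _ proj_mem_T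
  have hz : π z.1 = z := Subtype.ext (mem_T.1 z.2)
  rw [← hz, pi_eq_sum_univ z.1, map_sum]
  exact Submodule.sum_mem _ fun s _ => by rw [map_smul]; exact Submodule.smul_mem_smul (h s) trivial

theorem mem_smul_top_pi {M : Type u} [AddCommGroup M] [Module A M] {I : Ideal A} {r : ℕ} (z : Fin r → M) :
    z ∈ I • (⊤ : Submodule A (Fin r → M)) ↔ ∀ j, z j ∈ I • (⊤ : Submodule A M) := by
  classical
  refine ⟨fun h j => Aug.map_smul_top I (LinearMap.proj j) h, fun h => ?_⟩
  rw [show z = ∑ j, LinearMap.single A (fun _ => M) j (z j) from (Finset.univ_sum_single z).symm]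
  exact Submodule.sum_mem _ fun j _ => Aug.map_smul_top I _ (h j)

theorem koszul_Z (k : ℕ) (x : (koszul f hf r).P k) : x ∈ (koszul f hf r).Z I₀ k := by
  rcases k with _ | k
  · trivial
  · exact (mem_smul_top_pi _).2 fun j => mem_smul_top_T _ fun s => d_mem f _ s

theorem koszul_B (k : ℕ) (x : (koszul f hf r).P k) :
    x ∈ (koszul f hf r).B I₀ k ↔ x ∈ I₀ • (⊤ : Submodule A ((koszul f hf r).P k)) := by
  refine ⟨fun h => ?_, fun h => Aug.smul_top_le_B _ k h⟩
  refine (sup_le ?_ le_rfl : _ ≤ I₀ • (⊤ : Submodule A ((koszul f hf r).P k))) h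
  rintro _ ⟨y, rfl⟩
  exact (mem_smul_top_pi _).2 fun j => mem_smul_top_T _ fun s => d_mem f _ s

theorem koszul_kills : (koszul f hf r).Kills I₀ := fun a ha q => funext fun j => by
  obtain ⟨b, hb⟩ := Submodule.mkQ_surjective I₀ (q j)
  show a • q j = 0
  rw [← hb, ← map_smul]
  exact (Submodule.Quotient.mk_eq_zero _).2 (Ideal.mul_mem_right b _ ha)

/-- The linear combination of the sequence, in the ideal. -/
def comb {n : ℕ} (f : Fin n → A) : (Fin n → A) →ₗ[A] (Ideal.span (Set.range f) : Ideal A) :=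
  (Fintype.linearCombination A f).codRestrict _ fun v => by
    rw [Fintype.linearCombination_apply]
    exact Submodule.sum_mem _ fun i _ => Ideal.mul_mem_left _ _ (Ideal.subset_span ⟨i, rfl⟩)

theorem J_ιMulti_mem : ∀ (k : ℕ) (v : Fin k → Fin n → A), J n (ExteriorAlgebra.ιMulti A k v) ∈ T A n k
  | 0, v => by rw [ExteriorAlgebra.ιMulti_zero_apply, J_one]; exact bot_mem n
  | k + 1, v => by
    rw [ExteriorAlgebra.ιMulti_succ_apply, J_ι_mul]
    exact w_mem_T _ k ⟨_, J_ιMulti_mem k _⟩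

/-- The exterior power is the degree `k` part. -/
def JT (k : ℕ) : (⋀[A]^k (Fin n → A) : Submodule A _) ≃ₗ[A] T A n k :=
  LinearEquiv.ofLinearMap
    ((J n ∘ₗ (⋀[A]^k (Fin n → A)).subtype).codRestrict _ fun x => by
      obtain ⟨x, hx'⟩ := x
      have hx : x ∈ Submodule.span A (Set.range (ExteriorAlgebra.ιMulti A k)) := by
        rw [exteriorPower.ιMulti_span_fixedDegree]; exact hx'
      show J n x ∈ T A n k
      clear hx'
      induction hx using Submodule.span_induction with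
      | zero => rw [map_zero]; exact zero_mem _
      | add a b _ _ ha hb => rw [map_add]; exact add_mem ha hb
      | smul c a _ ha => rw [map_smul]; exact Submodule.smul_mem _ c ha
      | mem a ha => obtain ⟨v, rfl⟩ := ha; exact J_ιMulti_mem k v)
    ((K n ∘ₗ (T A n k).subtype).codRestrict _ fun z => by
      show K n z.1 ∈ _
      rw [← mem_T.1 z.2]; exact K_mem k z.1)
    (LinearMap.ext fun z => Subtype.ext (J_K z.1))
    (LinearMap.ext fun x => Subtype.ext (K_J x.1))

/-- The standard element of degree zero. -/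
def unit0 (j : Fin r) : (koszul f hf r).H I₀ 0 :=
  (koszul f hf r).cls I₀ 0 ⟨Pi.single j ⟨bot A n, bot_mem n⟩, trivial⟩

theorem omegaM_unit (j : Fin r) : ∀ (k : ℕ) (v : Fin k → Fin n → A),
    Aug.omegaM (koszul_isProj f hf r) (koszul_kills hf r) k (fun i => comb f (v i)) (unit0 hf r j) =
      (koszul f hf r).cls I₀ k ⟨Pi.single j ⟨J n (ExteriorAlgebra.ιMulti A k v), J_ιMulti_mem k v⟩, koszul_Z hf r k _⟩
  | 0, v => by
    show unit0 hf r j = _
    rw [unit0]
    congr 3
    exact Subtype.ext (by simp [J_one])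
  | k + 1, v => by
    classical
    rw [Aug.omegaM_succ, show Fin.tail (fun i => comb f (v i)) = fun i => comb f (Fin.tail v i) from rfl,
      omegaM_unit j k]
    have hh : ∃ h : (koszul f hf r).Htpy (comb f (v 0)).1, ∀ k x, h.h k x = fun i => wT (v 0) k (x i) := by
      have e : (comb f (v 0)).1 = ∑ i, v 0 i * f i := by
        show Fintype.linearCombination A f (v 0) = _
        rw [Fintype.linearCombination_apply]; rfl
      rw [e]
      exact ⟨koszulHtpy f hf r (v 0), fun k x => rfl⟩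
    obtain ⟨h, hh⟩ := hh
    show Aug.opA (koszul_isProj f hf r) (koszul_kills hf r) (comb f (v 0)) k _ = _
    rw [Aug.opA_cls (koszul_isProj f hf r) (koszul_kills hf r) _ h]
    congr 2
    rw [hh]
    funext i
    refine Subtype.ext ?_
    by_cases hi : i = j
    · subst hi
      simp only [Pi.single_eq_same]
      rw [ExteriorAlgebra.ιMulti_succ_apply, J_ι_mul]
      rfl
    · simp [Pi.single_eq_of_ne hi]

/-- The comparison map of the Koszul complex. -/
def thetaK (k : ℕ) : (Fin r → (⋀[A]^k (Fin n → A) : Submodule A _)) →ₗ[A] (koszul f hf r).H I₀ k :=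
  ∑ j, LinearMap.applyₗ (unit0 hf r j) ∘ₗ Aug.wedge (koszul_isProj f hf r) (koszul_kills hf r) k ∘ₗ
    exteriorPower.map k (comb f) ∘ₗ LinearMap.proj j

theorem thetaK_eq (k : ℕ) (x : Fin r → (⋀[A]^k (Fin n → A) : Submodule A _)) :
    thetaK hf r k x = (koszul f hf r).cls I₀ k ⟨fun j => JT k (x j), koszul_Z hf r k _⟩ := by
  classical
  let R : (Fin r → (⋀[A]^k (Fin n → A) : Submodule A _)) →ₗ[A] (koszul f hf r).H I₀ k :=
    (koszul f hf r).cls I₀ k ∘ₗ LinearMap.codRestrict _
      (LinearMap.pi fun j => (JT k).toLinearMap ∘ₗ LinearMap.proj j) (fun x => koszul_Z hf r k _)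
  suffices h : thetaK hf r k = R by rw [h]; rfl
  refine LinearMap.pi_ext' fun j => ?_
  ext v
  have h1 : thetaK hf r k (Pi.single j (exteriorPower.ιMulti A k v)) =
      Aug.omegaM (koszul_isProj f hf r) (koszul_kills hf r) k (fun i => comb f (v i)) (unit0 hf r j) := by
    simp only [thetaK, LinearMap.sum_apply, LinearMap.comp_apply, LinearMap.proj_apply, LinearMap.applyₗ_apply_apply]
    rw [Finset.sum_eq_single j]
    · rw [Pi.single_eq_same, exteriorPower.map_apply_ιMulti, Aug.wedge_ιMulti]; rfl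
    · intro i _ hi; simp [Pi.single_eq_of_ne hi]
    · simp
  show thetaK hf r k (Pi.single j (exteriorPower.ιMulti A k v)) = R (Pi.single j (exteriorPower.ιMulti A k v))
  rw [h1, omegaM_unit]
  show _ = (koszul f hf r).cls I₀ k ⟨fun i => JT k (Pi.single (M := fun _ => (⋀[A]^k (Fin n → A) : Submodule A _)) j _ i), _⟩
  congr 2
  funext i
  by_cases hi : i = j
  · subst hi; simp only [Pi.single_eq_same]; rfl
  · simp [Pi.single_eq_of_ne hi]

end Koszul

section Main

variable {n : ℕ} {f : Fin n → A} {I : Ideal A} {C : Aug A} {r : ℕ}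

/-- The comparison map. -/
def theta (hC : C.IsProj) (hI : C.Kills I) (hfI : ∀ i, f i ∈ I) (q : Fin r → C.H I 0) (k : ℕ) :
    (Fin r → (⋀[A]^k (Fin n → A) : Submodule A _)) →ₗ[A] C.H I k :=
  ∑ j, LinearMap.applyₗ (q j) ∘ₗ Aug.wedge hC hI k ∘ₗ
    exteriorPower.map k ((Fintype.linearCombination A f).codRestrict I fun v => by
      rw [Fintype.linearCombination_apply]
      exact Submodule.sum_mem _ fun i _ => I.mul_mem_left _ (hfI i)) ∘ₗ LinearMap.proj j

/-- `Tor_k(A/I, Q)` is free on the wedges of the generators times a basis of `Q`. -/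
theorem theta_bijective (hf : Wiebe.Acyclic f) (hI' : I = Ideal.span (Set.range f)) (hC : C.IsProj)
    (hsurj : Function.Surjective C.π) (hI : C.Kills I) (e : (Fin r → A ⧸ I) ≃ₗ[A] C.Q) (q : Fin r → C.H I 0)
    (hq : ∀ j, Aug.toQ hI (q j) = e (Pi.single j 1)) (hfI : ∀ i, f i ∈ I) (k : ℕ) :
    Function.Surjective (theta hC hI hfI q k) ∧
      ∀ x, theta hC hI hfI q k x = 0 ↔ ∀ j, x j ∈ I • (⊤ : Submodule A (⋀[A]^k (Fin n → A) : Submodule A _)) := by
  classical
  subst hI'
  let Kz := koszul f hf r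
  have hK := koszul_isProj f hf r
  have hKI := koszul_kills hf r
  obtain ⟨φ, hφ0, hφ⟩ := Aug.exists_map hK C e.toLinearMap (fun x => hsurj _)
  obtain ⟨ψ, hψ0, hψ⟩ := Aug.exists_map hC Kz e.symm.toLinearMap (fun x => koszul_surj f hf r _)
  let F : Aug.Hom Kz C := ⟨φ, hφ⟩
  let G : Aug.Hom C Kz := ⟨ψ, hψ⟩
  have h1 : ∀ x, G.map (Ideal.span (Set.range f)) k (F.map _ k x) = x := F.map_map G hK (fun x => by
    rw [show Kz.π (ψ 0 (φ 0 x)) = _ from hψ0 _, hφ0]; exact e.symm_apply_apply _) k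
  have h2 : ∀ x, F.map (Ideal.span (Set.range f)) k (G.map _ k x) = x := G.map_map F hC (fun x => by
    rw [show C.π (φ 0 (ψ 0 x)) = _ from hφ0 _, hψ0]; exact e.apply_symm_apply _) k
  have hunit : ∀ j, F.map (Ideal.span (Set.range f)) 0 (unit0 hf r j) = q j := fun j => Aug.toQ_injective hI (by
    rw [unit0, Aug.Hom.map_cls, Aug.toQ_cls, hq]
    show C.π (φ 0 _) = _
    rw [hφ0]
    refine congrArg e (funext fun i => ?_)
    show (Ideal.span (Set.range f)).mkQ (Wiebe.eps (Pi.single (M := fun _ => T A n 0) j _ i).1) = _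
    by_cases hi : i = j
    · subst hi; simp [Wiebe.eps_bot]
    · simp [Pi.single_eq_of_ne hi])
  have hcomp : ∀ x, theta hC hI hfI q k x = F.map _ k (thetaK hf r k x) := fun x => by
    simp only [theta, thetaK, LinearMap.sum_apply, LinearMap.comp_apply, LinearMap.proj_apply,
      LinearMap.applyₗ_apply_apply, map_sum]
    refine Finset.sum_congr rfl fun j _ => ?_
    rw [F.map_wedge hK hKI hC hI, hunit]
    rfl
  refine ⟨fun y => ?_, fun x => ?_⟩
  · obtain ⟨z, hz⟩ := Kz.cls_surjective _ k (G.map _ k y)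
    refine ⟨fun j => (JT k).symm (z.1 j), ?_⟩
    rw [hcomp, thetaK_eq]
    simp only [LinearEquiv.apply_symm_apply]
    rw [← h2 y, ← hz]
  · rw [hcomp, map_eq_zero_iff _ (Function.LeftInverse.injective h1), thetaK_eq, Aug.cls_eq_zero, koszul_B]
    refine (mem_smul_top_pi (M := T A n k) _).trans (forall_congr' fun j => ⟨fun h => ?_, fun h => Aug.map_smul_top _ (JT k).toLinearMap h⟩)
    simpa using Aug.map_smul_top _ (JT k).symm.toLinearMap h

end Main

end Groth.Agent.TorWedge
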