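import Groth.Agent.TorWedge.Local

/-!
# Exterior powers acting through operators of square zero
-/

set_option autoImplicit false

universe u

noncomputable section

namespace Groth.Agent.TorWedge

/-- Operators of degree one and of square zero, linear in a parameter. -/
structure Ops (B : Type u) [CommRing B] where
  /-- the parameters -/
  N : ModuleCat.{u} B
  /-- the graded object -/
  H : ℕ → ModuleCat.{u} B
  /-- the operators -/
  op : ∀ k, N →ₗ[B] H k →ₗ[B] H (k + 1)
  op_sq : ∀ k n x, op (k + 1) n (op k n x) = 0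

namespace Ops

variable {B : Type u} [CommRing B] (O : Ops B)

theorem op_comm (k : ℕ) (a b : O.N) (x : O.H k) :
    O.op (k + 1) a (O.op k b x) = - O.op (k + 1) b (O.op k a x) := by
  have h := O.op_sq k (a + b) x
  simp only [map_add, LinearMap.add_apply, O.op_sq, zero_add, add_zero] at h
  exact eq_neg_of_add_eq_zero_right h

/-- The composite of the operators of a family. -/
def omega : ∀ k, MultilinearMap B (fun _ : Fin k => O.N) (O.H 0 →ₗ[B] O.H k)
  | 0 => MultilinearMap.constOfIsEmpty B _ LinearMap.id
  | k + 1 => LinearMap.uncurryLeft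
      { toFun := fun a => ((LinearMap.llcomp B _ _ _) (O.op k a)).compMultilinearMap (omega k)
        map_add' := fun a b => by
          ext v x
          simp
        map_smul' := fun c a => by
          ext v x
          simp }

theorem omega_succ (k : ℕ) (v : Fin (k + 1) → O.N) (x : O.H 0) :
    O.omega (k + 1) v x = O.op k (v 0) (O.omega k (Fin.tail v) x) := rfl

theorem op_omega_eq_zero (x : O.H 0) : ∀ (k : ℕ) (v : Fin k → O.N) (i : Fin k), O.op k (v i) (O.omega k v x) = 0
  | 0, _, i => i.elim0
  | k + 1, v, i => by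
    rw [omega_succ]
    refine Fin.cases ?_ (fun j => ?_) i
    · exact O.op_sq k (v 0) _
    · rw [O.op_comm, show v j.succ = Fin.tail v j from rfl, op_omega_eq_zero x k (Fin.tail v) j, map_zero, neg_zero]

theorem omega_eq_zero (x : O.H 0) : ∀ (k : ℕ) (v : Fin k → O.N) (i j : Fin k),
    v i = v j → i ≠ j → O.omega k v x = 0
  | 0, _, i, _, _, _ => i.elim0
  | k + 1, v, i, j, hv, hij => by
    have key : ∀ l : Fin k, v 0 = v l.succ → O.omega (k + 1) v x = 0 := fun l hl => by
      rw [omega_succ, hl]
      exact O.op_omega_eq_zero x k (Fin.tail v) l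
    rcases Fin.eq_zero_or_eq_succ i with rfl | ⟨i, rfl⟩
    · rcases Fin.eq_zero_or_eq_succ j with rfl | ⟨j, rfl⟩
      · exact absurd rfl hij
      · exact key j hv
    · rcases Fin.eq_zero_or_eq_succ j with rfl | ⟨j, rfl⟩
      · exact key i hv.symm
      · rw [omega_succ, omega_eq_zero x k (Fin.tail v) i j hv (fun h => hij (by rw [h])), map_zero]

/-- The map from the exterior power. -/
def wedge (k : ℕ) : (⋀[B]^k O.N : Submodule B _) →ₗ[B] O.H 0 →ₗ[B] O.H k :=
  exteriorPower.alternatingMapLinearEquiv
    { toMultilinearMap := O.omega k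
      map_eq_zero_of_eq' := fun v i j hv hij => LinearMap.ext fun x => O.omega_eq_zero x k v i j hv hij }

theorem wedge_ιMulti (k : ℕ) (v : Fin k → O.N) (x : O.H 0) :
    O.wedge k (exteriorPower.ιMulti B k v) x = O.omega k v x := by
  rw [wedge, exteriorPower.alternatingMapLinearEquiv_apply_ιMulti]
  rfl

theorem wedge_smul (k : ℕ) (b : B) (t : (⋀[B]^k O.N : Submodule B _)) (x : O.H 0) :
    O.wedge k (b • t) x = b • O.wedge k t x := by rw [map_smul, LinearMap.smul_apply]

/-- Naturality of the composites, for any additive maps commuting with the operators. -/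
theorem omega_natural {B' : Type u} [CommRing B'] (O' : Ops B') (fN : O.N → O'.N) (fH : ∀ k, O.H k → O'.H k)
    (h : ∀ k n x, fH (k + 1) (O.op k n x) = O'.op k (fN n) (fH k x)) :
    ∀ (k : ℕ) (v : Fin k → O.N) (x : O.H 0), fH k (O.omega k v x) = O'.omega k (fun i => fN (v i)) (fH 0 x)
  | 0, _, _ => rfl
  | k + 1, v, x => by
    rw [omega_succ, omega_succ, h, omega_natural O' fN fH h k]
    rfl

end Ops

end Groth.Agent.TorWedge
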